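import Mathlib

set_option autoImplicit false

namespace Cfsg.Agent.KFacts.RgdFld.Two

/-- a cyclic group has at most one involution -/
theorem inv_unique {B : Type*} [Group B] [Finite B] [IsCyclic B] {b b' : B} (hb : b ≠ 1) (hbb : b * b = 1)
    (hb' : b' ≠ 1) (hbb' : b' * b' = 1) : b = b' := by
  classical
  have := Fintype.ofFinite B
  by_contra hne
  have h1 := IsCyclic.card_pow_eq_one_le (α := B) (n := 2) (by norm_num)
  have h2 : ({1, b, b'} : Finset B) ⊆ Finset.univ.filter (fun a => a ^ 2 = 1) := by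
    intro a ha
    rw [Finset.mem_insert, Finset.mem_insert, Finset.mem_singleton] at ha
    rw [Finset.mem_filter]
    refine ⟨Finset.mem_univ _, ?_⟩
    rcases ha with rfl | rfl | rfl
    · exact one_pow 2
    · rw [pow_two, hbb]
    · rw [pow_two, hbb']
  have h3 := Finset.card_le_card h2
  have h4 : ({1, b, b'} : Finset B).card = 3 := by
    rw [Finset.card_insert_of_notMem, Finset.card_insert_of_notMem, Finset.card_singleton]
    · rwa [Finset.mem_singleton]
    · rw [Finset.mem_insert, Finset.mem_singleton, not_or]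
      exact ⟨Ne.symm hb, Ne.symm hb'⟩
  omega

/-- the projection of a finite cyclic group to its `2`-part -/
theorem exists_proj (D : Type*) [Group D] [Finite D] [IsCyclic D] :
    ∃ (B : Type) (_ : CommGroup B) (π : D →* B), (∀ d, ∃ k : ℕ, π d ^ 2 ^ k = 1) ∧
      (∀ b b' : B, b ≠ 1 → b * b = 1 → b' ≠ 1 → b' * b' = 1 → b = b') ∧
      ∀ d, ∀ k : ℕ, d ^ 2 ^ k = 1 → π d = 1 → d = 1 := by
  obtain ⟨a, m, hm, hN⟩ := Nat.exists_eq_two_pow_mul_odd (n := Nat.card D) Nat.card_pos.ne'
  have : NeZero (Nat.card D) := ⟨Nat.card_pos.ne'⟩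
  obtain ⟨e⟩ : Nonempty (D ≃* Multiplicative (ZMod (Nat.card D))) := ⟨(zmodCyclicMulEquiv ‹IsCyclic D›).symm⟩
  have hcyc : IsCyclic (Multiplicative (ZMod (Nat.card D))) := inferInstance
  have hfin : Finite (Multiplicative (ZMod (Nat.card D))) := inferInstance
  have hcard : Nat.card (Multiplicative (ZMod (Nat.card D))) = Nat.card D := Nat.card_congr e.symm.toEquiv
  refine ⟨Multiplicative (ZMod (Nat.card D)), inferInstance, (powMonoidHom m).comp e.toMonoidHom, ?_, ?_, ?_⟩
  · intro d
    refine ⟨a, ?_⟩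
    show (e d ^ m) ^ 2 ^ a = 1
    rw [← pow_mul, mul_comm, ← hN, ← map_pow, pow_card_eq_one', map_one]
  · intro b b' hb hbb hb' hbb'
    exact inv_unique hb hbb hb' hbb'
  · intro d k hk h1
    have h2 : e d ^ m = 1 := h1
    rw [← map_pow] at h2
    have h3 : d ^ m = 1 := e.injective (by rw [h2, map_one])
    have h4 : orderOf d ∣ 2 ^ k := orderOf_dvd_of_pow_eq_one hk
    have h5 : orderOf d ∣ m := orderOf_dvd_of_pow_eq_one h3
    have h6 : Nat.Coprime (2 ^ k) m := Nat.Coprime.pow_left k (Nat.coprime_two_left.2 hm)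
    have h7 := Nat.eq_one_of_dvd_coprimes h6 h4 h5
    exact orderOf_eq_one_iff.1 h7

end Cfsg.Agent.KFacts.RgdFld.Two
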