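import Mathlib
import Cfsg.Agent.KFacts.RgdSL
import Cfsg.Agent.Nodes.Unique

/-!
# Layers of the unipotent group of a simply laced root group datum

* `Lay cs h k` : the roots of height at least `k`; `Bet cs h k S` : `Lay (k + 1) ⊆ S ⊆ Lay k`;
* `Bet.U_le_normalizer`, `Bet.exists_mul`, `X_inf_Sup`;
* `comm_mem_of_gen`, `comm_lay`.
-/

set_option autoImplicit false
set_option linter.unusedSectionVars false

namespace Cfsg.Agent.KFacts.RgdFld.Layer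

open CoxeterSystem Cfsg.Agent.ChevalleyStructure.CoxeterGeom Cfsg.Agent.Tits.Roots Cfsg.Agent.Tits.Core
  Cfsg.Agent.Tits.Exchange Cfsg.Agent.Nodes.Reps Cfsg.Agent.Nodes.BNOf Cfsg.Agent.Nodes.StabComb
  Cfsg.Agent.Nodes.Bruhat Cfsg.Agent.Nodes.OppDec Cfsg.Agent.Nodes.PosPair Cfsg.Agent.Nodes.Coroot Cfsg.Agent.KFacts.RgdSL
open scoped commutatorElement

variable {I W Y : Type*} [Fintype I] [DecidableEq I] [Group W] [Group Y] {M : CoxeterMatrix I}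
  {cs : CoxeterSystem M W} {A : I → I → ℤ} {h : IsCartan M A} {p : ℕ} {T : Subgroup Y} {n : I → Y}
  {X : (I → ℤ) → Subgroup Y}

/-! ### Combinatorics -/

theorem pos_of_ht {x : I → ℤ} (hx : IsRoot cs h x) (h0 : 0 < ht x) : 0 ≤ x := by
  rcases hx.pos_or_neg with h1 | h1
  · exact h1
  · exfalso
    have : ht x ≤ 0 := Finset.sum_nonpos fun i _ => h1 i
    omega

theorem ne_neg_of_pos {x y : I → ℤ} (hx : x ∈ RGD.Pos cs h) (hy : y ∈ RGD.Pos cs h) : x ≠ -y := by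
  intro h1
  have h2 := hx.2
  rw [h1] at h2
  exact hy.1.neg.not_pos_neg h2 (neg_nonpos.2 hy.2)

theorem btwn_pos [Finite W] (hs : SL cs h) {x y z : I → ℤ} (hx : x ∈ RGD.Pos cs h) (hy : y ∈ RGD.Pos cs h)
    (hz : Btwn cs h x y z) : (x = y ∧ z = x) ∨ (x ≠ y ∧ cpr cs h x y = -1 ∧ z = x + y) := by
  by_cases hxy : x = y
  · left
    refine ⟨hxy, ?_⟩
    subst hxy
    have h2 := RGD.nonneg_of_btwn hx.2 hx.2 hz
    obtain ⟨hzr, m, a, b, hm, ha, hb, he⟩ := hz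
    rw [← add_smul] at he
    rcases eq_or_eq_neg_of_smul cs h hzr hx.1 hm.ne' he with h1 | h1
    · exact h1
    · exfalso
      rw [h1] at h2
      exact hx.1.neg.not_pos_neg h2 (neg_nonpos.2 hx.2)
  · right
    obtain ⟨h1, h2⟩ := hs.btwn hx.1 hy.1 hxy (ne_neg_of_pos hx hy) hz
    exact ⟨hxy, h1, h2⟩

/-- The roots of height at least `k`. -/
def Lay (cs : CoxeterSystem M W) (h : IsCartan M A) (k : ℤ) : Set (I → ℤ) := {x | IsRoot cs h x ∧ k ≤ ht x}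

theorem lay_sub {k : ℤ} (hk : 0 < k) : Lay cs h k ⊆ RGD.Pos cs h := fun x hx =>
  ⟨hx.1, pos_of_ht hx.1 (by have := hx.2; omega)⟩

theorem lay_mono {k l : ℤ} (hk : k ≤ l) : Lay cs h l ⊆ Lay cs h k := fun _ hx => ⟨hx.1, le_trans hk hx.2⟩

theorem lay_one : Lay cs h 1 = RGD.Pos cs h := by
  refine Set.Subset.antisymm (lay_sub one_pos) fun x hx => ⟨hx.1, ?_⟩
  have := RGD.ht_pos hx.1 hx.2
  omega

/-- `S` lies between two layers. -/
structure Bet (cs : CoxeterSystem M W) (h : IsCartan M A) (k : ℤ) (S : Set (I → ℤ)) : Prop where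
  pos : 0 < k
  le : S ⊆ Lay cs h k
  ge : Lay cs h (k + 1) ⊆ S

theorem bet_lay {k : ℤ} (hk : 0 < k) : Bet cs h k (Lay cs h k) := ⟨hk, le_rfl, lay_mono (by omega)⟩

theorem Bet.sub {k : ℤ} {S : Set (I → ℤ)} (B : Bet cs h k S) : S ⊆ RGD.Pos cs h := B.le.trans (lay_sub B.pos)

theorem Bet.diff {k : ℤ} {S : Set (I → ℤ)} (B : Bet cs h k S) {a : I → ℤ} (ha : ht a = k) :
    Bet cs h k (S \ {a}) := by
  refine ⟨B.pos, Set.sdiff_subset.trans B.le, fun x hx => ⟨B.ge hx, ?_⟩⟩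
  rintro rfl
  have := hx.2
  omega

theorem Bet.up [Finite W] (hs : SL cs h) {k : ℤ} {S : Set (I → ℤ)} (B : Bet cs h k S) {x y z : I → ℤ} (hx : x ∈ S)
    (hy : y ∈ RGD.Pos cs h) (hz : Btwn cs h x y z) : z ∈ S := by
  rcases btwn_pos hs (B.sub hx) hy hz with ⟨-, rfl⟩ | ⟨-, -, rfl⟩
  · exact hx
  · refine B.ge ⟨hz.1, ?_⟩
    rw [RGD.ht_add]
    have h1 := (B.le hx).2
    have h2 := RGD.ht_pos hy.1 hy.2
    omega

theorem Bet.closed [Finite W] (hs : SL cs h) {k : ℤ} {S : Set (I → ℤ)} (B : Bet cs h k S) :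
    Nodes.Unique.Closed cs h S := fun _ hx _ hy _ hz => B.up hs hx (B.sub hy) hz

theorem closed_one [Finite W] (hs : SL cs h) {a : I → ℤ} (ha : a ∈ RGD.Pos cs h) :
    Nodes.Unique.Closed cs h {a} := by
  rintro x hx y hy z hz
  rw [Set.mem_singleton_iff] at hx hy ⊢
  subst hx hy
  rcases btwn_pos hs ha ha hz with ⟨-, h1⟩ | ⟨h1, -⟩
  · exact h1
  · exact absurd rfl h1

theorem Sup_one (a : I → ℤ) : RGD.Sup X {a} = X a := by
  apply le_antisymm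
  · refine RGD.Sup_le fun z hz => ?_
    rw [Set.mem_singleton_iff] at hz
    rw [hz]
  · exact RGD.le_Sup (Set.mem_singleton a)

/-! ### Commutators -/

theorem comm_mem_of_gen {N H : Subgroup Y} (hN : H ≤ Subgroup.normalizer (N : Set Y)) {S S' : Set (I → ℤ)}
    (hS : RGD.Sup X S ≤ H) (hS' : RGD.Sup X S' ≤ H)
    (hg : ∀ x ∈ S, ∀ y ∈ S', ∀ a ∈ X x, ∀ b ∈ X y, ⁅a, b⁆ ∈ N) {a b : Y} (ha : a ∈ RGD.Sup X S)
    (hb : b ∈ RGD.Sup X S') : ⁅a, b⁆ ∈ N := by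
  have hconj : ∀ g ∈ H, ∀ c ∈ N, g * c * g⁻¹ ∈ N := fun g hg c hc =>
    (Subgroup.mem_normalizer_iff.1 (hN hg) c).1 hc
  -- the subgroup of the elements commuting with `b` modulo `N`
  have key : ∀ b : Y, ∃ C : Subgroup Y, ∀ a, a ∈ C ↔ a ∈ H ∧ ⁅a, b⁆ ∈ N := by
    intro b
    refine ⟨{ carrier := {a | a ∈ H ∧ ⁅a, b⁆ ∈ N}
              mul_mem' := ?_
              one_mem' := ⟨one_mem _, by rw [commutatorElement_one_left]; exact one_mem _⟩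
              inv_mem' := ?_ }, fun a => Iff.rfl⟩
    · rintro a a' ⟨ha, ha'⟩ ⟨hb, hb'⟩
      refine ⟨mul_mem ha hb, ?_⟩
      have e : ⁅a * a', b⁆ = a * ⁅a', b⁆ * a⁻¹ * ⁅a, b⁆ := by simp only [commutatorElement_def]; group
      rw [e]
      exact mul_mem (hconj a ha _ hb') ha'
    · rintro a ⟨ha, ha'⟩
      refine ⟨inv_mem ha, ?_⟩
      have e : ⁅a⁻¹, b⁆ = a⁻¹ * (⁅a, b⁆)⁻¹ * (a⁻¹)⁻¹ := by simp only [commutatorElement_def]; group
      rw [e]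
      exact hconj _ (inv_mem ha) _ (inv_mem ha')
  have h1 : ∀ y ∈ S', ∀ b ∈ X y, ∀ a ∈ RGD.Sup X S, ⁅a, b⁆ ∈ N := by
    intro y hy b hb a ha
    obtain ⟨C, hC⟩ := key b
    have h2 : RGD.Sup X S ≤ C := RGD.Sup_le fun x hx a ha =>
      (hC a).2 ⟨hS (RGD.le_Sup hx ha), hg x hx y hy a ha b hb⟩
    exact ((hC a).1 (h2 ha)).2
  obtain ⟨C, hC⟩ := key a
  have h2 : RGD.Sup X S' ≤ C := RGD.Sup_le fun y hy b hb => (hC b).2 ⟨hS' (RGD.le_Sup hy hb), by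
    have h3 := inv_mem (h1 y hy b hb a ha)
    rwa [commutatorElement_inv] at h3⟩
  have h3 := inv_mem ((hC b).1 (h2 hb)).2
  rwa [commutatorElement_inv] at h3

section

variable (R : RGD cs h p T n X)

include R

theorem Bet.U_le_normalizer [Finite W] (hs : SL cs h) {k : ℤ} {S : Set (I → ℤ)} (B : Bet cs h k S) :
    RGD.Sup X (RGD.Pos cs h) ≤ Subgroup.normalizer (RGD.Sup X S : Set Y) := by
  refine RGD.Sup_le fun y hy => R.le_normalizer hy.1 fun x hx => ⟨(B.sub hx).1, ?_⟩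
  by_cases hxy : y = x
  · exact Or.inl hxy
  · exact Or.inr ⟨ne_neg_of_pos hy (B.sub hx), fun z hz => B.up hs hx hy hz.symm⟩

theorem Bet.conj_mem [Finite W] (hs : SL cs h) {k : ℤ} {S : Set (I → ℤ)} (B : Bet cs h k S) {u s : Y}
    (hu : u ∈ RGD.Sup X (RGD.Pos cs h)) (hsm : s ∈ RGD.Sup X S) : u * s * u⁻¹ ∈ RGD.Sup X S :=
  (Subgroup.mem_normalizer_iff.1 (B.U_le_normalizer R hs hu) s).1 hsm

theorem Bet.conj_mem' [Finite W] (hs : SL cs h) {k : ℤ} {S : Set (I → ℤ)} (B : Bet cs h k S) {u s : Y}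
    (hu : u ∈ RGD.Sup X (RGD.Pos cs h)) (hsm : s ∈ RGD.Sup X S) : u⁻¹ * s * u ∈ RGD.Sup X S := by
  have := B.conj_mem R hs (inv_mem hu) hsm
  rwa [inv_inv] at this

theorem Bet.exists_mul [Finite W] (hs : SL cs h) {k : ℤ} {S : Set (I → ℤ)} (B : Bet cs h k S) {a : I → ℤ}
    (ha : a ∈ S) (hak : ht a = k) {v : Y} (hv : v ∈ RGD.Sup X S) :
    ∃ x ∈ X a, ∃ s ∈ RGD.Sup X (S \ {a}), v = x * s := by
  have hn : X a ≤ Subgroup.normalizer (RGD.Sup X (S \ {a}) : Set Y) :=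
    le_trans (RGD.le_Sup (B.sub ha)) ((B.diff hak).U_le_normalizer R hs)
  have h1 : v ∈ ((X a ⊔ RGD.Sup X (S \ {a}) : Subgroup Y) : Set Y) := by
    refine (?_ : RGD.Sup X S ≤ _) hv
    refine RGD.Sup_le fun z hz => ?_
    by_cases hz0 : z = a
    · subst hz0; exact le_sup_left
    · exact le_trans (RGD.le_Sup (S := S \ {a}) ⟨hz, hz0⟩) le_sup_right
  rw [Subgroup.coe_mul_of_left_le_normalizer_right _ _ hn, Set.mem_mul] at h1
  obtain ⟨x, hx, s, hsm, e⟩ := h1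
  exact ⟨x, hx, s, hsm, e.symm⟩

theorem X_inf_Sup [Finite W] (hs : SL cs h) {k : ℤ} {S : Set (I → ℤ)} (B : Bet cs h k S) {a : I → ℤ}
    (ha : a ∈ RGD.Pos cs h) (haS : a ∉ S) {y : Y} (h1 : y ∈ X a) (h2 : y ∈ RGD.Sup X S) : y = 1 := by
  have h3 := Nodes.Unique.inf_eq R (S := {a}) (Set.singleton_subset_iff.2 ha) B.sub (closed_one hs ha) (B.closed hs)
  have h4 : y ∈ RGD.Sup X {a} ⊓ RGD.Sup X S := ⟨by rw [Sup_one]; exact h1, h2⟩
  rw [h3, Set.singleton_inter_eq_empty.2 haS, Sup_empty] at h4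
  exact Subgroup.mem_bot.1 h4

/-- the intersection of two sets between layers -/
theorem Sup_inf_Sup [Finite W] (hs : SL cs h) {k l : ℤ} {S S' : Set (I → ℤ)} (B : Bet cs h k S)
    (B' : Bet cs h l S') : RGD.Sup X S ⊓ RGD.Sup X S' = RGD.Sup X (S ∩ S') :=
  Nodes.Unique.inf_eq R B.sub B'.sub (B.closed hs) (B'.closed hs)

/-- Commutators of root groups. -/
theorem comm_root [Finite W] (hs : SL cs h) {x y : I → ℤ} (hx : x ∈ RGD.Pos cs h) (hy : y ∈ RGD.Pos cs h)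
    (hab : ∀ a ∈ X x, ∀ b ∈ X x, a * b = b * a) {S : Set (I → ℤ)} (hS : cpr cs h x y = -1 → x + y ∈ S) {a b : Y}
    (ha : a ∈ X x) (hb : b ∈ X y) : ⁅a, b⁆ ∈ RGD.Sup X S := by
  by_cases hxy : x = y
  · subst hxy
    rw [commutatorElement_eq_one_iff_mul_comm.2 (hab a ha b hb)]
    exact one_mem _
  · refine R.btw_le_Sup ?_ (R.comm x y hx.1 hy.1 hxy (ne_neg_of_pos hx hy) a ha b hb)
    intro z hz
    rcases btwn_pos hs hx hy hz with ⟨h1, -⟩ | ⟨-, h1, rfl⟩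
    · exact absurd h1 hxy
    · exact hS h1

/-- `[V_k, V_l] ≤ V_{k+l}` -/
theorem comm_lay [Finite W] (hs : SL cs h) (hab : ∀ x, IsRoot cs h x → ∀ a ∈ X x, ∀ b ∈ X x, a * b = b * a)
    {k l : ℤ} (hk : 0 < k) (hl : 0 < l) {a b : Y} (ha : a ∈ RGD.Sup X (Lay cs h k)) (hb : b ∈ RGD.Sup X (Lay cs h l)) :
    ⁅a, b⁆ ∈ RGD.Sup X (Lay cs h (k + l)) := by
  refine comm_mem_of_gen ((bet_lay (by omega)).U_le_normalizer R hs) (RGD.Sup_mono (lay_sub hk))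
    (RGD.Sup_mono (lay_sub hl)) ?_ ha hb
  intro x hx y hy a ha b hb
  refine comm_root R hs (lay_sub hk hx) (lay_sub hl hy) (hab x hx.1) (fun hc => ?_) ha hb
  refine ⟨isRoot_add hx.1 hy.1 hc, ?_⟩
  rw [RGD.ht_add]
  have h1 := hx.2
  have h2 := hy.2
  omega

end

end Cfsg.Agent.KFacts.RgdFld.Layer
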