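import Mathlib
import Cfsg.Agent.KFacts.RgdFld.Layer
import Cfsg.Agent.KFacts.RgdField

/-!
# `H¹(⟨β⟩, U) = 0` for a field automorphism `β`

* `Coh β P` : `H¹(⟨β⟩, P) = 0` for an involution `β`; `Coh.lift` : fixed points lift;
* `Act β X f` : the involution `β` permutes the root groups as `f`;
* `coh_Sup` : `Coh β (X x)` for the roots `x` fixed by `f` implies `Coh β U`;
* `coh_coord` : `Coh` for a semilinear action on a root group.
-/

set_option autoImplicit false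
set_option linter.unusedSectionVars false
set_option linter.dupNamespace false

namespace Cfsg.Agent.KFacts.RgdFld.Coh

open CoxeterSystem Cfsg.Agent.ChevalleyStructure.CoxeterGeom Cfsg.Agent.Tits.Roots Cfsg.Agent.Tits.Core
  Cfsg.Agent.Tits.Exchange Cfsg.Agent.Nodes.Reps Cfsg.Agent.Nodes.BNOf Cfsg.Agent.Nodes.StabComb
  Cfsg.Agent.Nodes.Bruhat Cfsg.Agent.Nodes.OppDec Cfsg.Agent.Nodes.PosPair Cfsg.Agent.Nodes.Coroot Cfsg.Agent.KFacts.RgdSL
  Cfsg.Agent.KFacts.RgdFld.Layer Cfsg.Agent.KFacts.RgdField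
open scoped commutatorElement

/-- `H¹(⟨β⟩, P) = 0` for the involution `β`. -/
def Coh {Y : Type*} [Group Y] (β : MulAut Y) (P : Subgroup Y) : Prop :=
  ∀ v ∈ P, v * β v = 1 → ∃ s ∈ P, s * v * (β s)⁻¹ = 1

/-- Fixed points lift. -/
theorem Coh.lift {Y : Type*} [Group Y] {β : MulAut Y} {P : Subgroup Y} (hP : Coh β P) (hβ : ∀ y, β (β y) = y)
    {v : Y} (hv : v⁻¹ * β v ∈ P) : ∃ s ∈ P, β (v * s) = v * s := by
  obtain ⟨s, hs, e⟩ := hP _ hv (by rw [map_mul, map_inv, hβ]; group)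
  refine ⟨s⁻¹, inv_mem hs, ?_⟩
  have h1 : β v = v * s⁻¹ * β s := by
    have h2 : s * (v⁻¹ * β v) = β s := mul_inv_eq_one.1 e
    rw [← h2]; group
  rw [map_mul, map_inv, h1]
  group

variable {I W Y : Type*} [Fintype I] [DecidableEq I] [Group W] [Group Y] {M : CoxeterMatrix I}
  {cs : CoxeterSystem M W} {A : I → I → ℤ} {h : IsCartan M A} {p : ℕ} {T : Subgroup Y} {n : I → Y}
  {X : (I → ℤ) → Subgroup Y}

/-- The involution `β` permutes the root groups as `f`. -/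
structure Act (cs : CoxeterSystem M W) (h : IsCartan M A) (X : (I → ℤ) → Subgroup Y) (β : MulAut Y)
    (f : (I → ℤ) → (I → ℤ)) : Prop where
  sq : ∀ y, β (β y) = y
  inv : ∀ x, f (f x) = x
  root : ∀ x, IsRoot cs h x → IsRoot cs h (f x)
  ht : ∀ x, ht (f x) = ht x
  map : ∀ x, IsRoot cs h x → ∀ y ∈ X x, β y ∈ X (f x)

theorem Act.map_Sup {β : MulAut Y} {f : (I → ℤ) → (I → ℤ)} (E : Act cs h X β f) {S : Set (I → ℤ)}
    (hS : ∀ x ∈ S, IsRoot cs h x ∧ f x ∈ S) {y : Y} (hy : y ∈ RGD.Sup X S) : β y ∈ RGD.Sup X S := by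
  have h1 : RGD.Sup X S ≤ (RGD.Sup X S).comap β.toMonoidHom :=
    RGD.Sup_le fun x hx y hy => RGD.le_Sup (hS x hx).2 (E.map x (hS x hx).1 y hy)
  exact h1 hy

section

variable (R : RGD cs h p T n X)

include R

theorem coh_Sup_aux [Finite W] (hs : SL cs h)
    {β : MulAut Y} {f : (I → ℤ) → (I → ℤ)} (E : Act cs h X β f)
    (hfix : ∀ x ∈ RGD.Pos cs h, f x = x → Coh β (X x)) (m : ℕ) : ∀ (k : ℤ) (S : Set (I → ℤ)), Bet cs h k S →
      (∀ x ∈ S, f x ∈ S) → S.ncard = m → Coh β (RGD.Sup X S) := by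
  induction m using Nat.strong_induction_on with
  | _ m ih =>
  intro k S B hf hm
  have hfin : S.Finite := (RGD.finite_roots (cs := cs) (h := h)).subset fun x hx => (B.sub hx).1
  rcases S.eq_empty_or_nonempty with rfl | hne
  · intro v hv _
    rw [Sup_empty, Subgroup.mem_bot] at hv
    subst hv
    exact ⟨1, one_mem _, by rw [map_one]; group⟩
  -- a root of minimal height
  obtain ⟨a, ha, hmin⟩ := Set.exists_min_image S ht hfin hne
  have B' : Bet cs h (ht a) S := by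
    have h1 := (B.le ha).2
    have h2 := B.pos
    exact ⟨by omega, fun x hx => ⟨(B.sub hx).1, hmin x hx⟩, (lay_mono (by omega)).trans B.ge⟩
  have haP := B.sub ha
  have hfa := hf a ha
  have B1 := B'.diff (a := a) rfl
  have hmap : ∀ {S : Set (I → ℤ)}, S ⊆ RGD.Pos cs h → (∀ x ∈ S, f x ∈ S) → ∀ {y}, y ∈ RGD.Sup X S →
      β y ∈ RGD.Sup X S := fun hS hf y hy => E.map_Sup (fun x hx => ⟨(hS hx).1, hf x hx⟩) hy
  intro v hv hvv
  by_cases hfx : f a = a
  · -- a fixed root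
    have hf1 : ∀ x ∈ S \ {a}, f x ∈ S \ {a} := by
      rintro x ⟨hx, hxa⟩
      refine ⟨hf x hx, fun h1 => hxa ?_⟩
      rw [Set.mem_singleton_iff] at h1 ⊢
      rw [← E.inv x, h1, hfx]
    have hlt : (S \ {a}).ncard < m := by
      rw [← hm]
      exact Set.ncard_sdiff_singleton_lt_of_mem ha hfin
    have hcoh := ih _ hlt _ _ B1 hf1 rfl
    obtain ⟨x, hx, s, hsm, rfl⟩ := B'.exists_mul R hs ha rfl hv
    have hxU : x ∈ RGD.Sup X (RGD.Pos cs h) := RGD.le_Sup haP hx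
    have hbx : β x ∈ X a := by
      have := E.map a haP.1 x hx
      rwa [hfx] at this
    have hbs := hmap B1.sub hf1 hsm
    have hN : x * β x ∈ RGD.Sup X (S \ {a}) := by
      have h2 : x * β x = ((β x)⁻¹ * s * β x * β s)⁻¹ := by
        rw [map_mul] at hvv
        refine eq_inv_of_mul_eq_one_left ?_
        rw [← hvv]; group
      rw [h2]
      exact inv_mem (mul_mem (B1.conj_mem' R hs (RGD.le_Sup haP hbx) hsm) hbs)
    have h1 : x * β x = 1 := X_inf_Sup R hs B1 haP (fun h2 => h2.2 rfl) (mul_mem hx hbx) hN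
    obtain ⟨r, hr, hrx⟩ := hfix a haP hfx x hx h1
    have hbr : β r ∈ X a := by
      have := E.map a haP.1 r hr
      rwa [hfx] at this
    have e : r * (x * s) * (β r)⁻¹ = β r * s * (β r)⁻¹ := by
      have h2 : r * x = β r := mul_inv_eq_one.1 hrx
      rw [← mul_assoc, h2]
    have hv' : r * (x * s) * (β r)⁻¹ ∈ RGD.Sup X (S \ {a}) := by
      rw [e]
      exact B1.conj_mem R hs (RGD.le_Sup haP hbr) hsm
    obtain ⟨t, ht, hte⟩ := hcoh _ hv' (by
      rw [map_mul, map_mul, map_inv, E.sq]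
      have h2 : r * (x * s) * (β r)⁻¹ * (β r * β (x * s) * r⁻¹) = r * (x * s * β (x * s)) * r⁻¹ := by group
      rw [h2, hvv]; group)
    refine ⟨t * r, mul_mem (RGD.Sup_mono Set.sdiff_subset ht) (RGD.le_Sup ha hr), ?_⟩
    rw [map_mul, mul_inv_rev, ← hte]
    group
  · -- two roots exchanged by `f`
    have hbP := B.sub hfa
    have hb1 : f a ∈ S \ {a} := ⟨hfa, hfx⟩
    have B2 := B1.diff (a := f a) (E.ht a)
    have hf2 : ∀ x ∈ (S \ {a}) \ {f a}, f x ∈ (S \ {a}) \ {f a} := by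
      rintro x ⟨⟨hx, hxa⟩, hxb⟩
      rw [Set.mem_singleton_iff] at hxa hxb
      refine ⟨⟨hf x hx, fun h1 => hxb ?_⟩, fun h1 => hxa ?_⟩
      · rw [Set.mem_singleton_iff] at h1
        rw [← E.inv x, h1]
      · rw [Set.mem_singleton_iff] at h1
        rw [← E.inv x, h1, E.inv]
    have hlt : ((S \ {a}) \ {f a}).ncard < m := by
      rw [← hm]
      exact lt_of_le_of_lt (Set.ncard_le_ncard Set.sdiff_subset (hfin.subset Set.sdiff_subset))
        (Set.ncard_sdiff_singleton_lt_of_mem ha hfin)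
    have hcoh := ih _ hlt _ _ B2 hf2 rfl
    obtain ⟨x, hx, s', hs', rfl⟩ := B'.exists_mul R hs ha rfl hv
    obtain ⟨y, hy, s, hsm, rfl⟩ := B1.exists_mul R hs hb1 (E.ht a) hs'
    have hbx : β x ∈ X (f a) := E.map a haP.1 x hx
    have hby : β y ∈ X a := by
      have := E.map (f a) hbP.1 y hy
      rwa [E.inv] at this
    have hbs := hmap B2.sub hf2 hsm
    have hU : ∀ {z : Y}, z ∈ X a → z ∈ RGD.Sup X (RGD.Pos cs h) := fun hz => RGD.le_Sup haP hz
    have hU' : ∀ {z : Y}, z ∈ X (f a) → z ∈ RGD.Sup X (RGD.Pos cs h) := fun hz => RGD.le_Sup hbP hz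
    have hsU : ∀ {z : Y}, z ∈ RGD.Sup X ((S \ {a}) \ {f a}) → z ∈ RGD.Sup X (RGD.Pos cs h) :=
      fun hz => RGD.Sup_mono B2.sub hz
    -- `y (β x) = 1`
    have Bb := B'.diff (a := f a) (E.ht a)
    have h1 : y * β x = 1 := by
      refine X_inf_Sup R hs Bb hbP (fun h2 => h2.2 rfl) (mul_mem hy hbx) ?_
      have h2 : y * β x = x⁻¹ * ((β s)⁻¹ * (β y)⁻¹ * ((β x)⁻¹ * s * β x)⁻¹) := by
        rw [map_mul, map_mul] at hvv
        have h3 : x * (y * β x) * ((β x)⁻¹ * s * β x * β y * β s) = 1 := by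
          rw [← hvv]; group
        have h4 := mul_eq_one_iff_eq_inv.1 h3
        have h5 : y * β x = x⁻¹ * (x * (y * β x)) := by group
        rw [h5, h4]; group
      have hsub : (S \ {a}) \ {f a} ⊆ S \ {f a} := fun z hz => ⟨hz.1.1, hz.2⟩
      have haS : a ∈ S \ {f a} := ⟨ha, fun h3 => hfx h3.symm⟩
      rw [h2]
      refine mul_mem (inv_mem (RGD.le_Sup haS hx)) (mul_mem (mul_mem (inv_mem ?_) (inv_mem ?_)) (inv_mem ?_))
      · exact RGD.Sup_mono hsub hbs
      · exact RGD.le_Sup haS hby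
      · exact Bb.conj_mem' R hs (hU' hbx) (RGD.Sup_mono hsub hsm)
    have h2 : β x = y⁻¹ := (inv_eq_of_mul_eq_one_right h1).symm
    have e : x⁻¹ * (x * (y * s)) * β x = y * s * y⁻¹ := by
      rw [h2]; group
    obtain ⟨t, ht, hte⟩ := hcoh _ (B2.conj_mem R hs (hU' hy) hsm) (by
      have h3 : β (y * s * y⁻¹) = (β x)⁻¹ * β (x * (y * s)) * x := by
        rw [← e, map_mul β (x⁻¹ * (x * (y * s))), map_mul β x⁻¹, map_inv, E.sq]
      rw [h3, ← e]
      have h4 : x⁻¹ * (x * (y * s)) * β x * ((β x)⁻¹ * β (x * (y * s)) * x) =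
        x⁻¹ * (x * (y * s) * β (x * (y * s))) * x := by group
      rw [h4, hvv]; group)
    refine ⟨t * x⁻¹, mul_mem (RGD.Sup_mono (Set.sdiff_subset.trans Set.sdiff_subset) ht)
      (inv_mem (RGD.le_Sup ha hx)), ?_⟩
    rw [← e] at hte
    rw [map_mul, map_inv, mul_inv_rev, ← hte]
    group

theorem coh_Sup [Finite W] (hs : SL cs h)
    {β : MulAut Y} {f : (I → ℤ) → (I → ℤ)} (E : Act cs h X β f)
    (hfix : ∀ x ∈ RGD.Pos cs h, f x = x → Coh β (X x)) {k : ℤ} {S : Set (I → ℤ)} (B : Bet cs h k S)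
    (hf : ∀ x ∈ S, f x ∈ S) : Coh β (RGD.Sup X S) := coh_Sup_aux R hs E hfix _ k S B hf rfl

end

/-! ### One root group -/

/-- A semilinear involution with nontrivial field automorphism is not the identity. -/
theorem exists_trace {F : Type*} [Field F] [CharP F 2] {τ : F ≃+* F} (hτ : τ ≠ 1) {c : F} :
    ∃ θ, θ + c * τ θ ≠ 0 := by
  by_contra hcon
  push Not at hcon
  apply hτ
  have h1 : ∀ θ, c * τ θ = θ := by
    intro θ
    have h2 := hcon θ
    have h3 : c * τ θ = -θ := by linear_combination h2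
    rw [h3, CharTwo.neg_eq]
  have h2 : c = 1 := by
    have := h1 1
    rwa [map_one, mul_one] at this
  ext θ
  have := h1 θ
  rw [h2, one_mul] at this
  exact this

/-- Additive Hilbert 90 for a semilinear involution in characteristic two. -/
theorem exists_sub {F : Type*} [Field F] [CharP F 2] {τ : F ≃+* F} (hτ : τ ≠ 1) {c : F}
    (hcc : ∀ a, c * τ (c * τ a) = a) {l : F} (hl : c * τ l = l) : ∃ μ, μ + c * τ μ = l := by
  obtain ⟨θ, hθ⟩ := exists_trace hτ (c := c)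
  have ht : c * τ (θ + c * τ θ) = θ + c * τ θ := by
    rw [map_add, mul_add, hcc]; ring
  have hc : c ≠ 0 := by
    rintro rfl
    have := hcc 1
    rw [zero_mul] at this
    exact one_ne_zero this.symm
  have hf : τ (l / (θ + c * τ θ)) = l / (θ + c * τ θ) := by
    rw [map_div₀]
    have h1 : τ (θ + c * τ θ) ≠ 0 := fun h1 => hθ ((map_eq_zero τ).1 h1)
    rw [div_eq_div_iff h1 hθ]
    apply mul_left_cancel₀ hc
    have h2 : c * (τ l * (θ + c * τ θ)) = (c * τ l) * (θ + c * τ θ) := by ring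
    have h3 : c * (l * τ (θ + c * τ θ)) = l * (c * τ (θ + c * τ θ)) := by ring
    rw [h2, h3, hl, ht]
  refine ⟨l / (θ + c * τ θ) * θ, ?_⟩
  rw [map_mul, hf]
  field_simp

theorem coh_coord {Y : Type*} [Group Y] {F : Type*} [Field F] [CharP F 2] {T P : Subgroup Y} {x : F → Y} {χ : Y → F}
    (C : Coord T P x χ) {β : MulAut Y} (hβ : ∀ y, β (β y) = y) {τ : F ≃+* F} (hτ : τ ≠ 1) {c : F}
    (hx : ∀ a, β (x a) = x (c * τ a)) : Coh β P := by
  intro v hv hvv
  obtain ⟨l, rfl⟩ := (C.mem v).1 hv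
  have hcc : ∀ a, c * τ (c * τ a) = a := by
    intro a
    have := hβ (x a)
    rw [hx, hx] at this
    exact C.inj this
  have hl : c * τ l = l := by
    rw [hx, ← C.add, ← C.zero] at hvv
    have h1 := C.inj hvv
    have h2 : c * τ l = -l := by linear_combination h1
    rw [h2, CharTwo.neg_eq]
  obtain ⟨μ, hμ⟩ := exists_sub hτ hcc hl
  refine ⟨x μ, (C.mem _).2 ⟨μ, rfl⟩, ?_⟩
  rw [mul_inv_eq_one, ← C.add, hx]
  congr 1
  rw [← hμ, ← add_assoc, CharTwo.add_self_eq_zero, zero_add]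

end Cfsg.Agent.KFacts.RgdFld.Coh
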