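import Mathlib
import Cfsg.Agent.KFacts.RgdFld.Coh
import Cfsg.Agent.KFacts.RgdTau

/-!
# The centre of `C_U(β)`

* `Str cs h x` : structure constants of the root groups;
* `exists_eff` : the effect of a simple root group on a layer;
* `Fram` : a frame involution with a nontrivial field automorphism;
* `Fram.center` : `Z(C_U(β)) ≤ X ρ`.
-/

set_option autoImplicit false
set_option linter.unusedSectionVars false

namespace Cfsg.Agent.KFacts.RgdFld.Center

open CoxeterSystem Cfsg.Agent.ChevalleyStructure.CoxeterGeom Cfsg.Agent.Tits.Roots Cfsg.Agent.Tits.Core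
  Cfsg.Agent.Tits.Exchange Cfsg.Agent.Nodes.Reps Cfsg.Agent.Nodes.BNOf Cfsg.Agent.Nodes.StabComb
  Cfsg.Agent.Nodes.Bruhat Cfsg.Agent.Nodes.OppDec Cfsg.Agent.Nodes.PosPair Cfsg.Agent.Nodes.Coroot
  Cfsg.Agent.KFacts.RgdSL Cfsg.Agent.KFacts.RgdAut Cfsg.Agent.KFacts.RgdDiag
  Cfsg.Agent.KFacts.RgdFld.Layer Cfsg.Agent.KFacts.RgdField Cfsg.Agent.KFacts.RgdTau Cfsg.Agent.KFacts.RgdFld.Coh
open scoped commutatorElement

variable {I W Y : Type*} [Fintype I] [DecidableEq I] [Group W] [Group Y] {M : CoxeterMatrix I}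
  {cs : CoxeterSystem M W} {A : I → I → ℤ} {h : IsCartan M A} {p : ℕ} {T : Subgroup Y} {n : I → Y}
  {X : (I → ℤ) → Subgroup Y} {F : Type*} [Field F] {x : (I → ℤ) → F → Y} {χ : (I → ℤ) → Y → F}

/-- Structure constants (simply laced case). -/
def Str (cs : CoxeterSystem M W) (h : IsCartan M A) (x : (I → ℤ) → F → Y) : Prop :=
  ∀ a b, IsRoot cs h a → IsRoot cs h b → cpr cs h a b = -1 → ∃ N : F, N ≠ 0 ∧
    ∀ l m, ⁅x a l, x b m⁆ = x (a + b) (N * l * m)

theorem mem_lay {k : ℤ} {a : I → ℤ} (ha : IsRoot cs h a) (hk : k ≤ ht a) : a ∈ Lay cs h k := ⟨ha, hk⟩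

theorem ht_sr (i : I) : ht (sr i : I → ℤ) = 1 := by
  unfold ht
  rw [Finset.sum_eq_single i (fun b _ hb => sr_ne hb) (fun h1 => absurd (Finset.mem_univ i) h1), sr_self]

theorem sr_mem_pos (i : I) : sr i ∈ RGD.Pos cs h := ⟨isRoot_sr cs h i, sr_nonneg i⟩

/-- two positive roots with a root as sum -/
theorem cpr_of_add [Finite W] (hs : SL cs h) {a b : I → ℤ} (ha : a ∈ RGD.Pos cs h) (hb : b ∈ RGD.Pos cs h)
    (hab : IsRoot cs h (a + b)) : cpr cs h a b = -1 := by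
  have hz : Btwn cs h a b (a + b) := Btwn.of_int hab one_pos one_pos (by rw [one_smul, one_smul])
  rcases btwn_pos hs ha hb hz with ⟨-, h1⟩ | ⟨-, h1, -⟩
  · exfalso
    have : b = 0 := by simpa using h1
    exact hb.1.ne_zero this
  · exact h1

section

variable (R : RGD cs h p T n X)

include R

theorem mem_U {a : I → ℤ} (ha : a ∈ RGD.Pos cs h) {y : Y} (hy : y ∈ X a) : y ∈ RGD.Sup X (RGD.Pos cs h) :=
  RGD.le_Sup ha hy

/-- **The effect of a simple root group on a layer.** -/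
theorem exists_eff [Finite W] (hs : SL cs h) (C : ∀ r, IsRoot cs h r → Coord T (X r) (x r) (χ r))
    (hN : Str cs h x) {k : ℤ} (hk : 0 < k) (j : I) {b : I → ℤ} (hb : IsRoot cs h b) (hbk : ht b = k + 1) {v : Y}
    (hv : v ∈ RGD.Sup X (Lay cs h k)) :
    ∃ e : F, (∀ μ, ⁅x (sr j) μ, v⁆ * (x b (e * μ))⁻¹ ∈ RGD.Sup X (Lay cs h (k + 1) \ {b})) ∧
      ∀ a, IsRoot cs h a → a + sr j = b → v ∉ RGD.Sup X (Lay cs h k \ {a}) → e ≠ 0 := by
  have hab : ∀ r, IsRoot cs h r → ∀ a ∈ X r, ∀ b ∈ X r, a * b = b * a := by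
    intro r hr a ha b hb
    obtain ⟨l, rfl⟩ := ((C r hr).mem a).1 ha
    obtain ⟨m, rfl⟩ := ((C r hr).mem b).1 hb
    rw [← (C r hr).add, ← (C r hr).add, add_comm]
  have BM : Bet cs h (k + 1) (Lay cs h (k + 1) \ {b}) := (bet_lay (by omega)).diff hbk
  have hbP : b ∈ RGD.Pos cs h := lay_sub (k := k + 1) (by omega) ⟨hb, by omega⟩
  have hjP : sr j ∈ RGD.Pos cs h := sr_mem_pos j
  have hxj : ∀ μ, x (sr j) μ ∈ X (sr j) := fun μ => ((C _ hjP.1).mem _).2 ⟨μ, rfl⟩
  -- the generators other than `a`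
  have hgen : ∀ S : Set (I → ℤ), S ⊆ Lay cs h k → (∀ y ∈ S, y + sr j ≠ b) → ∀ μ, ∀ r ∈ RGD.Sup X S,
      ⁅x (sr j) μ, r⁆ ∈ RGD.Sup X (Lay cs h (k + 1) \ {b}) := by
    intro S hS hne μ r hr
    refine comm_mem_of_gen (S := {sr j}) (S' := S) (BM.U_le_normalizer R hs) ?_ ?_ ?_
      (by rw [Sup_one]; exact hxj μ) hr
    · rw [Sup_one]; exact RGD.le_Sup hjP
    · exact RGD.Sup_mono (hS.trans (lay_sub hk))
    · rintro z hz y hy c hc d hd
      rw [Set.mem_singleton_iff] at hz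
      subst hz
      refine comm_root R hs (S := Lay cs h (k + 1) \ {b}) hjP (lay_sub hk (hS hy)) (hab _ hjP.1)
        (fun hcp => ⟨⟨isRoot_add hjP.1 (hS hy).1 hcp, ?_⟩, ?_⟩) hc hd
      · rw [RGD.ht_add, ht_sr]
        have := (hS hy).2
        omega
      · intro h1
        rw [Set.mem_singleton_iff, add_comm] at h1
        exact hne y hy h1
  by_cases hex : ∃ a, IsRoot cs h a ∧ a + sr j = b
  · obtain ⟨a, ha, haj⟩ := hex
    have hak : ht a = k := by
      have h1 := congrArg ht haj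
      rw [RGD.ht_add, ht_sr] at h1
      omega
    have haP : a ∈ RGD.Pos cs h := lay_sub hk ⟨ha, hak.ge⟩
    have hcp : cpr cs h (sr j) a = -1 := cpr_of_add hs hjP haP (by rw [add_comm, haj]; exact hb)
    obtain ⟨N, hN0, hNe⟩ := hN _ _ hjP.1 ha hcp
    obtain ⟨c, hc, r, hr, rfl⟩ := (bet_lay hk).exists_mul R hs (mem_lay ha hak.ge) hak hv
    obtain ⟨l, rfl⟩ := ((C a ha).mem c).1 hc
    refine ⟨N * l, fun μ => ?_, fun a' ha' haj' hv' => ?_⟩
    · have e : ⁅x (sr j) μ, x a l * r⁆ * (x b (N * l * μ))⁻¹ =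
          (⁅x (sr j) μ, x a l⁆ * x a l) * ⁅x (sr j) μ, r⁆ * (⁅x (sr j) μ, x a l⁆ * x a l)⁻¹ *
          (⁅x (sr j) μ, x a l⁆ * (x b (N * l * μ))⁻¹) := by
        simp only [commutatorElement_def]; group
      have e2 : ⁅x (sr j) μ, x a l⁆ * (x b (N * l * μ))⁻¹ = 1 := by
        rw [hNe, mul_inv_eq_one, add_comm (sr j) a, haj]
        congr 1; ring
      rw [e, e2, mul_one]
      refine BM.conj_mem R hs ?_ (hgen _ Set.sdiff_subset ?_ μ r hr)
      · refine mul_mem ?_ (mem_U R haP hc)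
        rw [hNe]
        refine mem_U R hbP ?_
        rw [add_comm (sr j) a, haj]
        exact ((C b hb).mem _).2 ⟨_, rfl⟩
      · rintro y ⟨-, hy⟩ h1
        apply hy
        rw [Set.mem_singleton_iff]
        rw [← haj] at h1
        exact add_right_cancel h1
    · have : a' = a := by
        rw [← haj] at haj'
        exact add_right_cancel haj'
      subst this
      intro h0
      rcases mul_eq_zero.1 h0 with h1 | h1
      · exact hN0 h1
      · apply hv'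
        rw [h1, (C a' ha).zero, one_mul]
        exact hr
  · refine ⟨0, fun μ => ?_, fun a ha haj _ => absurd ⟨a, ha, haj⟩ hex⟩
    rw [zero_mul, (C b hb).zero, inv_one, mul_one]
    exact hgen _ le_rfl (fun y hy h1 => hex ⟨y, hy.1, h1⟩) μ v hv

end

/-! ### Frame involutions with a nontrivial field automorphism -/

/-- A frame involution with a nontrivial field automorphism. -/
structure Fram (T : Subgroup Y) (X : (I → ℤ) → Subgroup Y) (χ : (I → ℤ) → Y → F) (A : I → I → ℤ)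
    (β : MulAut Y) (σ : Equiv.Perm I) (τ : F ≃+* F) : Prop where
  tau : Tau T X χ A β σ τ
  sq : ∀ y, β (β y) = y
  ne : τ ≠ 1

section

variable {β : MulAut Y} {σ : Equiv.Perm I} {τ : F ≃+* F} (H : Fram T X χ A β σ τ)

theorem isRoot_comp (hσ : ∀ i j, M (σ i) (σ j) = M i j) (hA : ∀ i j, A (σ i) (σ j) = A i j) {r : I → ℤ}
    (hr : IsRoot cs h r) : IsRoot cs h (r ∘ σ.symm) := by
  obtain ⟨w, i, rfl⟩ := hr
  rw [← rep_hat hσ hA, sr_comp]
  exact ⟨_, _, rfl⟩

theorem ht_comp (r : I → ℤ) : ht (r ∘ σ.symm) = ht r := by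
  unfold ht
  exact Equiv.sum_comp σ.symm r

include H

theorem Fram.mul_self (R : RGD cs h p T n X) [Finite W] [Nonempty I] (C : Coords cs h T n X x χ) : σ * σ = 1 := by
  have h1 := H.tau.mul H.tau
  have h2 : β * β = 1 := MulEquiv.ext fun y => H.sq y
  rw [h2] at h1
  exact (Tau.unique R C h1 Tau.one).1

theorem Fram.symm_symm (R : RGD cs h p T n X) [Finite W] [Nonempty I] (C : Coords cs h T n X x χ) (i : I) :
    σ.symm (σ.symm i) = i := by
  have h1 := H.mul_self R C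
  have h2 : ∀ j, σ (σ j) = j := fun j => by
    have := congrArg (fun g : Equiv.Perm I => g j) h1
    exact this
  rw [Equiv.symm_apply_eq, Equiv.symm_apply_eq]
  exact (h2 i).symm

theorem Fram.act (R : RGD cs h p T n X) [Finite W] [Nonempty I] (C : Coords cs h T n X x χ) :
    Act cs h X β (fun r => r ∘ σ.symm) where
  sq := H.sq
  inv r := by
    funext i
    show r (σ.symm (σ.symm i)) = r i
    rw [H.symm_symm R C]
  root r hr := isRoot_comp (H.tau.diag.matrix R) H.tau.cartan hr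
  ht r := ht_comp r
  map r hr y hy := (Diag.root_comp R H.tau.diag H.tau.cartan hr y).2 hy

theorem Fram.coh [CharP F 2] (R : RGD cs h p T n X) [Finite W] [Nonempty I] (C : Coords cs h T n X x χ)
    (hs : SL cs h) {k : ℤ} {S : Set (I → ℤ)} (B : Bet cs h k S) (hf : ∀ r ∈ S, r ∘ σ.symm ∈ S) :
    Coh β (RGD.Sup X S) := by
  refine coh_Sup R hs (H.act R C) (fun r hr hfr => ?_) B hf
  obtain ⟨c, -, hc⟩ := Tau.root R C H.tau hr.1
  have hfr' : r ∘ σ.symm = r := hfr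
  rw [hfr'] at hc
  exact coh_coord (C.coord r hr.1) H.sq H.ne hc

theorem Fram.coh_lay [CharP F 2] (R : RGD cs h p T n X) [Finite W] [Nonempty I] (C : Coords cs h T n X x χ)
    (hs : SL cs h) {k : ℤ} (hk : 0 < k) : Coh β (RGD.Sup X (Lay cs h k)) :=
  H.coh R C hs (bet_lay hk) fun r hr =>
    ⟨isRoot_comp (H.tau.diag.matrix R) H.tau.cartan hr.1, by rw [ht_comp]; exact hr.2⟩

/-- A fixed element of `U` with given image in `X_i X_{σ i}` modulo `[U, U]`. -/
theorem Fram.exists_fix [CharP F 2] (R : RGD cs h p T n X) [Finite W] [Nonempty I] (C : Coords cs h T n X x χ)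
    (hs : SL cs h) {i : I} {c : F} (hc : ∀ a, β (x (sr i) a) = x (sr (σ i)) (c * τ a)) (μ : F) :
    ∃ s ∈ RGD.Sup X (Lay cs h 2), β (x (sr i) μ * x (sr (σ i)) (c * τ μ) * s) =
      x (sr i) μ * x (sr (σ i)) (c * τ μ) * s := by
  refine (H.coh_lay R C hs (by norm_num : (0 : ℤ) < 2)).lift H.sq ?_
  have h1 : β (x (sr (σ i)) (c * τ μ)) = x (sr i) μ := by rw [← hc, H.sq]
  rw [map_mul, h1, ← hc, mul_inv_rev]
  have e : (β (x (sr i) μ))⁻¹ * (x (sr i) μ)⁻¹ * (β (x (sr i) μ) * x (sr i) μ) =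
      ⁅(β (x (sr i) μ))⁻¹, (x (sr i) μ)⁻¹⁆ := by rw [commutatorElement_def, inv_inv, inv_inv]; group
  rw [e]
  have hab : ∀ r, IsRoot cs h r → ∀ a ∈ X r, ∀ b ∈ X r, a * b = b * a := by
    intro r hr a ha b hb
    obtain ⟨l, rfl⟩ := ((C.coord r hr).mem a).1 ha
    obtain ⟨m, rfl⟩ := ((C.coord r hr).mem b).1 hb
    rw [← (C.coord r hr).add, ← (C.coord r hr).add, add_comm]
  have hU : ∀ (i : I) (a : F), x (sr i) a ∈ RGD.Sup X (Lay cs h 1) := fun i a => by
    rw [lay_one]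
    exact RGD.le_Sup (sr_mem_pos i) (((C.coord _ (isRoot_sr cs h i)).mem _).2 ⟨a, rfl⟩)
  have h2 := comm_lay R hs hab (k := 1) (l := 1) one_pos one_pos (inv_mem (hc μ ▸ hU (σ i) (c * τ μ)))
    (inv_mem (hU i μ))
  exact h2

theorem Fram.twice (_R : RGD cs h p T n X) [Finite W] [Nonempty I] (C : Coords cs h T n X x χ) {r : I → ℤ}
    (hr : IsRoot cs h r) (hrσ : r ∘ σ.symm = r) {c : F} (hc : ∀ a, β (x r a) = x (r ∘ σ.symm) (c * τ a)) (a : F) :
    c * τ (c * τ a) = a := by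
  rw [hrσ] at hc
  have := H.sq (x r a)
  rw [hc, hc] at this
  exact (C.coord r hr).inj this

/-- One step for the centre. -/
theorem Fram.step [CharP F 2] (R : RGD cs h p T n X) [Finite W] [Nonempty I] (C : Coords cs h T n X x χ)
    (hs : SL cs h) (hN : Str cs h x) {k : ℤ} (hk : 0 < k) {u : Y} (hu : u ∈ RGD.Sup X (Lay cs h k))
    (hc : ∀ w ∈ RGD.Sup X (RGD.Pos cs h), β w = w → w * u = u * w) {a : I → ℤ} (ha : IsRoot cs h a)
    (hak : ht a = k) {i : I} (hi : IsRoot cs h (a + sr i)) : u ∈ RGD.Sup X (Lay cs h k \ {a}) := by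
  by_contra hu'
  obtain ⟨b, hb⟩ : ∃ b, b = a + sr i := ⟨_, rfl⟩
  rw [← hb] at hi
  have hbk : ht b = k + 1 := by rw [hb, RGD.ht_add, ht_sr, hak]
  have hbP : b ∈ RGD.Pos cs h := lay_sub (k := k + 1) (by omega) ⟨hi, by omega⟩
  have BM : Bet cs h (k + 1) (Lay cs h (k + 1) \ {b}) := (bet_lay (by omega)).diff hbk
  obtain ⟨e, he, hne⟩ := exists_eff R hs C.coord hN hk i hi hbk hu
  obtain ⟨e', he', -⟩ := exists_eff R hs C.coord hN hk (σ i) hi hbk hu
  have he0 : e ≠ 0 := hne a ha hb.symm hu'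
  obtain ⟨c, hc0, hcx⟩ := Tau.root R C H.tau (isRoot_sr cs h i)
  have hcx' := hcx
  rw [sr_comp] at hcx'
  have hxU : ∀ (i : I) (a : F), x (sr i) a ∈ RGD.Sup X (RGD.Pos cs h) := fun i a =>
    RGD.le_Sup (sr_mem_pos i) (((C.coord _ (isRoot_sr cs h i)).mem _).2 ⟨a, rfl⟩)
  have hxb : ∀ l, x b l ∈ X b := fun l => ((C.coord b hi).mem _).2 ⟨l, rfl⟩
  have hb0 : ∀ l, x b l ∈ RGD.Sup X (Lay cs h (k + 1) \ {b}) → l = 0 := by
    intro l hl
    have h1 := X_inf_Sup R hs BM hbP (fun h2 => h2.2 rfl) (hxb l) hl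
    by_contra h2
    exact (C.coord b hi).ne_one h2 h1
  by_cases hσi : σ i = i
  · have hrσ : (sr i : I → ℤ) ∘ σ.symm = sr i := by rw [sr_comp, hσi]
    have hcc := H.twice R C (isRoot_sr cs h i) hrσ hcx
    obtain ⟨θ, hθ⟩ := exists_trace H.ne (c := c)
    have hfix : β (x (sr i) (θ + c * τ θ)) = x (sr i) (θ + c * τ θ) := by
      rw [hcx', hσi]
      congr 1
      rw [map_add, mul_add, hcc]; ring
    have h1 := he (θ + c * τ θ)
    rw [commutatorElement_eq_one_iff_mul_comm.2 (hc _ (hxU _ _) hfix), one_mul] at h1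
    have h2 := hb0 _ (by simpa using inv_mem h1)
    rcases mul_eq_zero.1 h2 with h3 | h3
    · exact he0 h3
    · exact hθ h3
  · have hab : ∀ r, IsRoot cs h r → ∀ a ∈ X r, ∀ b ∈ X r, a * b = b * a := by
      intro r hr a ha b hb
      obtain ⟨l, rfl⟩ := ((C.coord r hr).mem a).1 ha
      obtain ⟨m, rfl⟩ := ((C.coord r hr).mem b).1 hb
      rw [← (C.coord r hr).add, ← (C.coord r hr).add, add_comm]
    have hkey : ∀ μ, e' * (c * τ μ) + e * μ = 0 := by
      intro μ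
      apply hb0
      obtain ⟨s, hsm, hsf⟩ := H.exists_fix R C hs hcx' μ
      obtain ⟨q, hq⟩ : ∃ q, q = x (sr (σ i)) (c * τ μ) := ⟨_, rfl⟩
      obtain ⟨r, hr⟩ : ∃ r, r = x (sr i) μ := ⟨_, rfl⟩
      rw [← hq, ← hr] at hsf
      have hqU : q ∈ RGD.Sup X (RGD.Pos cs h) := hq ▸ hxU _ _
      have hrU : r ∈ RGD.Sup X (RGD.Pos cs h) := hr ▸ hxU _ _
      have hsU : s ∈ RGD.Sup X (RGD.Pos cs h) := RGD.Sup_mono (lay_sub (by norm_num)) hsm
      have h1 : ⁅r * q * s, u⁆ = 1 :=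
        commutatorElement_eq_one_iff_mul_comm.2 (hc _ (mul_mem (mul_mem hrU hqU) hsU) hsf)
      have m0 : ⁅s, u⁆ ∈ RGD.Sup X (Lay cs h (k + 1) \ {b}) := by
        refine RGD.Sup_mono ?_ (comm_lay R hs hab (k := 2) (by norm_num) hk hsm hu)
        rintro z ⟨hz, hz2⟩
        refine ⟨⟨hz, by omega⟩, ?_⟩
        rintro rfl
        omega
      have m1 := he' (c * τ μ)
      have m2 := he μ
      rw [← hq] at m1
      rw [← hr] at m2
      have m3 : ⁅r, x b (e' * (c * τ μ))⁆ ∈ RGD.Sup X (Lay cs h (k + 1) \ {b}) := by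
        have h2 := comm_lay R hs hab (k := 1) (l := k + 1) one_pos (by omega) (by rw [lay_one]; exact hrU)
          (RGD.le_Sup (S := Lay cs h (k + 1)) ⟨hi, hbk.ge⟩ (hxb (e' * (c * τ μ))))
        refine RGD.Sup_mono ?_ h2
        rintro z ⟨hz, hz2⟩
        refine ⟨⟨hz, by omega⟩, ?_⟩
        rintro rfl
        omega
      rw [(C.coord b hi).add]
      obtain ⟨x', hx'⟩ : ∃ x', x' = x b (e' * (c * τ μ)) := ⟨_, rfl⟩
      obtain ⟨x'', hx''⟩ : ∃ x'', x'' = x b (e * μ) := ⟨_, rfl⟩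
      have hx'U : x' ∈ RGD.Sup X (RGD.Pos cs h) := hx' ▸ RGD.le_Sup hbP (hxb _)
      rw [← hx'] at m1 m3 ⊢
      rw [← hx''] at m2 ⊢
      have h3 : r * q * ⁅s, u⁆ * (r * q)⁻¹ * (r * (⁅q, u⁆ * x'⁻¹) * r⁻¹) * ⁅r, x'⁆ *
          (x' * (⁅r, u⁆ * x''⁻¹) * x'⁻¹) * (x' * x'') = 1 := by
        rw [← h1]
        simp only [commutatorElement_def]
        group
      rw [mul_eq_one_iff_inv_eq.1 h3 |>.symm]
      exact inv_mem (mul_mem (mul_mem (mul_mem (BM.conj_mem R hs (mul_mem hrU hqU) m0) (BM.conj_mem R hs hrU m1)) m3)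
        (BM.conj_mem R hs hx'U m2))
    have h1 := hkey 1
    rw [map_one, mul_one, mul_one] at h1
    apply H.ne
    ext μ
    have h2 := hkey μ
    have h3 : e' * c = e := by
      have : e' * c = -e := by linear_combination h1
      rw [this, CharTwo.neg_eq]
    have h4 : e * (τ μ + μ) = 0 := by
      rw [← h2, ← h3]; ring
    have h5 := (mul_eq_zero.1 h4).resolve_left he0
    have h6 : τ μ = -μ := by linear_combination h5
    rw [h6, CharTwo.neg_eq]
    rfl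

omit H in
/-- Removing roots of height `k` one at a time. -/
theorem mem_of_forall [Finite W] (R : RGD cs h p T n X) (hs : SL cs h) {k : ℤ} (hk : 0 < k) {u : Y}
    (hu : u ∈ RGD.Sup X (Lay cs h k))
    (hall : ∀ a, IsRoot cs h a → ht a = k → u ∈ RGD.Sup X (Lay cs h k \ {a})) :
    u ∈ RGD.Sup X (Lay cs h (k + 1)) := by
  have hfin : {a | IsRoot cs h a ∧ ht a = k}.Finite :=
    (RGD.finite_roots (cs := cs) (h := h)).subset fun x hx => hx.1
  have key : ∀ E : Set (I → ℤ), E.Finite → E ⊆ {a | IsRoot cs h a ∧ ht a = k} →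
      Bet cs h k (Lay cs h k \ E) ∧ u ∈ RGD.Sup X (Lay cs h k \ E) := by
    intro E hE
    induction E, hE using Set.Finite.induction_on with
    | empty =>
      intro _
      rw [Set.sdiff_empty]
      exact ⟨bet_lay hk, hu⟩
    | @insert a E ha hE ih =>
      intro hsub
      obtain ⟨B, h1⟩ := ih ((Set.subset_insert a E).trans hsub)
      obtain ⟨ha1, ha2⟩ := hsub (Set.mem_insert a E)
      have h2 := hall a ha1 ha2
      have B2 : Bet cs h k (Lay cs h k \ {a}) := (bet_lay hk).diff ha2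
      have h3 : u ∈ RGD.Sup X (Lay cs h k \ E) ⊓ RGD.Sup X (Lay cs h k \ {a}) := ⟨h1, h2⟩
      rw [Sup_inf_Sup R hs B B2] at h3
      have e : (Lay cs h k \ E) ∩ (Lay cs h k \ {a}) = Lay cs h k \ insert a E := by
        ext z
        simp only [Set.mem_inter_iff, Set.mem_sdiff, Set.mem_singleton_iff, Set.mem_insert_iff]
        tauto
      rw [e] at h3
      refine ⟨?_, h3⟩
      have e2 : Lay cs h k \ insert a E = (Lay cs h k \ E) \ {a} := by
        ext z
        simp only [Set.mem_sdiff, Set.mem_singleton_iff, Set.mem_insert_iff]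
        tauto
      rw [e2]
      exact B.diff ha2
  obtain ⟨-, h1⟩ := key _ hfin le_rfl
  refine RGD.Sup_mono ?_ h1
  rintro z ⟨hz, hz2⟩
  refine ⟨hz.1, ?_⟩
  have h2 := hz.2
  rcases lt_or_eq_of_le h2 with h3 | h3
  · omega
  · exact absurd ⟨hz.1, h3.symm⟩ hz2

end

/-- the highest root -/
structure Highest (cs : CoxeterSystem M W) (h : IsCartan M A) (ρ : I → ℤ) : Prop where
  pos : ρ ∈ RGD.Pos cs h
  up : ∀ a ∈ RGD.Pos cs h, a ≠ ρ → ∃ i, IsRoot cs h (a + sr i)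

theorem Highest.ht_le [Finite W] {ρ : I → ℤ} (H : Highest cs h ρ) {a : I → ℤ} (ha : a ∈ RGD.Pos cs h) :
    ht a ≤ ht ρ ∧ (ht a = ht ρ → a = ρ) := by
  have hfin := RGD.finite_roots (cs := cs) (h := h)
  obtain ⟨m, hm⟩ : ∃ m : ℤ, ∀ a, IsRoot cs h a → ht a ≤ m := by
    obtain ⟨m, hm⟩ := (hfin.image ht).bddAbove
    exact ⟨m, fun a ha => hm ⟨a, ha, rfl⟩⟩
  have key : ∀ (d : ℕ) (a : I → ℤ), a ∈ RGD.Pos cs h → m - ht a = d → ht a ≤ ht ρ ∧ (ht a = ht ρ → a = ρ) := by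
    intro d
    induction d using Nat.strong_induction_on with
    | _ d ih =>
    intro a ha hd
    by_cases haρ : a = ρ
    · subst haρ
      exact ⟨le_rfl, fun _ => rfl⟩
    · obtain ⟨i, hi⟩ := H.up a ha haρ
      have h1 : ht (a + sr i) = ht a + 1 := by rw [RGD.ht_add, ht_sr]
      have h2 := hm _ hi
      have h3 := RGD.ht_pos ha.1 ha.2
      have hP : a + sr i ∈ RGD.Pos cs h := ⟨hi, pos_of_ht hi (by omega)⟩
      obtain ⟨h4, -⟩ := ih (d - 1) (by omega) _ hP (by omega)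
      exact ⟨by omega, fun h5 => by omega⟩
  exact key (m - ht a).toNat a ha (by
    have := hm a ha.1
    omega)

section

variable {β : MulAut Y} {σ : Equiv.Perm I} {τ : F ≃+* F} (H : Fram T X χ A β σ τ)

include H

/-- **`Z(C_U(β)) ≤ X ρ`** -/
theorem Fram.center [CharP F 2] (R : RGD cs h p T n X) [Finite W] [Nonempty I] (C : Coords cs h T n X x χ)
    (hs : SL cs h) (hN : Str cs h x) {ρ : I → ℤ} (hρ : Highest cs h ρ) {u : Y} (hu : u ∈ RGD.Sup X (RGD.Pos cs h))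
    (hc : ∀ w ∈ RGD.Sup X (RGD.Pos cs h), β w = w → w * u = u * w) : u ∈ X ρ := by
  have hpos := RGD.ht_pos hρ.pos.1 hρ.pos.2
  have key : ∀ d : ℕ, (d : ℤ) + 1 ≤ ht ρ → u ∈ RGD.Sup X (Lay cs h (d + 1)) := by
    intro d
    induction d with
    | zero =>
      intro _
      rw [Nat.cast_zero, zero_add, lay_one]
      exact hu
    | succ d ih =>
      intro hd
      have h1 := ih (by push_cast at hd; omega)
      have h2 : u ∈ RGD.Sup X (Lay cs h ((d : ℤ) + 1 + 1)) := by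
        refine mem_of_forall R hs (by omega) h1 fun a ha hak => ?_
        have haP : a ∈ RGD.Pos cs h := ⟨ha, pos_of_ht ha (by omega)⟩
        have haρ : a ≠ ρ := by
          rintro rfl
          push_cast at hd
          omega
        obtain ⟨i, hi⟩ := hρ.up a haP haρ
        exact H.step R C hs hN (by omega) h1 hc ha hak hi
      rw [Nat.cast_succ]
      exact h2
  have h1 := key (ht ρ - 1).toNat (by omega)
  have h2 : Lay cs h (((ht ρ - 1).toNat : ℤ) + 1) ⊆ {ρ} := by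
    rintro z ⟨hz, hz2⟩
    have hzP : z ∈ RGD.Pos cs h := ⟨hz, pos_of_ht hz (by omega)⟩
    obtain ⟨h3, h4⟩ := hρ.ht_le hzP
    exact h4 (by omega)
  rw [← Sup_one (X := X) ρ]
  exact RGD.Sup_mono h2 h1

end

end Cfsg.Agent.KFacts.RgdFld.Center
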