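import Mathlib
import Cfsg.Agent.KFacts.RgdFld.Center

/-!
# `C_{X ρ}(β) ≤ [C_U(β), C_U(β)]`
-/

set_option autoImplicit false
set_option linter.unusedSectionVars false

namespace Cfsg.Agent.KFacts.RgdFld.Der

open CoxeterSystem Cfsg.Agent.ChevalleyStructure.CoxeterGeom Cfsg.Agent.Tits.Roots Cfsg.Agent.Tits.Core
  Cfsg.Agent.Tits.Exchange Cfsg.Agent.Nodes.Reps Cfsg.Agent.Nodes.BNOf Cfsg.Agent.Nodes.StabComb
  Cfsg.Agent.Nodes.Bruhat Cfsg.Agent.Nodes.OppDec Cfsg.Agent.Nodes.PosPair Cfsg.Agent.Nodes.Coroot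
  Cfsg.Agent.KFacts.RgdSL Cfsg.Agent.KFacts.RgdAut Cfsg.Agent.KFacts.RgdDiag
  Cfsg.Agent.KFacts.RgdFld.Layer Cfsg.Agent.KFacts.RgdField Cfsg.Agent.KFacts.RgdTau Cfsg.Agent.KFacts.RgdFld.Coh
  Cfsg.Agent.KFacts.RgdFld.Center
open scoped commutatorElement

variable {I W Y : Type*} [Fintype I] [DecidableEq I] [Group W] [Group Y] {M : CoxeterMatrix I}
  {cs : CoxeterSystem M W} {A : I → I → ℤ} {h : IsCartan M A} {p : ℕ} {T : Subgroup Y} {n : I → Y}
  {X : (I → ℤ) → Subgroup Y} {F : Type*} [Field F] {x : (I → ℤ) → F → Y} {χ : (I → ℤ) → Y → F}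

/-- `C_U(β)` -/
def CU (cs : CoxeterSystem M W) (h : IsCartan M A) (X : (I → ℤ) → Subgroup Y) (β : MulAut Y) : Subgroup Y where
  carrier := {w | w ∈ RGD.Sup X (RGD.Pos cs h) ∧ β w = w}
  mul_mem' := fun ha hb => ⟨mul_mem ha.1 hb.1, by rw [map_mul, ha.2, hb.2]⟩
  one_mem' := ⟨one_mem _, map_one β⟩
  inv_mem' := fun ha => ⟨inv_mem ha.1, by rw [map_inv, ha.2]⟩

theorem mem_CU {β : MulAut Y} {w : Y} : w ∈ CU cs h X β ↔ w ∈ RGD.Sup X (RGD.Pos cs h) ∧ β w = w := Iff.rfl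

theorem cpr_sub' [Finite W] {x y z : I → ℤ} (hz : IsRoot cs h z) :
    cpr cs h (x - y) z = cpr cs h x z - cpr cs h y z := by
  rw [sub_eq_add_neg, cpr_add cs h _ _ hz, cpr_neg cs h _ hz]; ring

theorem ht_ne_zero {a : I → ℤ} (ha : IsRoot cs h a) : ht a ≠ 0 := by
  rcases ha.pos_or_neg with h1 | h1
  · exact (RGD.ht_pos ha h1).ne'
  · have h2 := RGD.ht_pos ha.neg (neg_nonneg.2 h1)
    have h3 : ht (-a) = -ht a := by
      have := RGD.ht_smul (-1) a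
      rw [neg_one_smul] at this
      rw [this]; ring
    omega

theorem ab_of_coords (C : ∀ r, IsRoot cs h r → Coord T (X r) (x r) (χ r)) : ∀ r, IsRoot cs h r →
    ∀ a ∈ X r, ∀ b ∈ X r, a * b = b * a := by
  intro r hr a ha b hb
  obtain ⟨l, rfl⟩ := ((C r hr).mem a).1 ha
  obtain ⟨m, rfl⟩ := ((C r hr).mem b).1 hb
  rw [← (C r hr).add, ← (C r hr).add, add_comm]

/-- `X ρ` is central in `U`. -/
theorem central [Finite W] (R : RGD cs h p T n X) (hs : SL cs h)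
    (hab : ∀ r, IsRoot cs h r → ∀ a ∈ X r, ∀ b ∈ X r, a * b = b * a) {ρ : I → ℤ} (hρ : Highest cs h ρ) {z u : Y}
    (hz : z ∈ X ρ) (hu : u ∈ RGD.Sup X (RGD.Pos cs h)) : z * u = u * z := by
  have hpos := RGD.ht_pos hρ.pos.1 hρ.pos.2
  have h1 := comm_lay R hs hab (k := ht ρ) (l := 1) hpos one_pos
    (RGD.le_Sup (S := Lay cs h (ht ρ)) ⟨hρ.pos.1, le_rfl⟩ hz) (by rw [lay_one]; exact hu)
  have h2 : Lay cs h (ht ρ + 1) = ∅ := by
    rw [Set.eq_empty_iff_forall_notMem]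
    rintro a ⟨ha, ha2⟩
    have h3 := (hρ.ht_le ⟨ha, pos_of_ht ha (by omega)⟩).1
    omega
  rw [h2, Sup_empty, Subgroup.mem_bot] at h1
  exact commutatorElement_eq_one_iff_mul_comm.1 h1

section

variable {β : MulAut Y} {σ : Equiv.Perm I} {τ : F ≃+* F} (H : Fram T X χ A β σ τ)

include H

theorem Fram.rho_comp (R : RGD cs h p T n X) [Finite W] {ρ : I → ℤ} (hρ : Highest cs h ρ) : ρ ∘ σ.symm = ρ := by
  have h1 := isRoot_comp (H.tau.diag.matrix R) H.tau.cartan hρ.pos.1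
  have h2 : ht (ρ ∘ σ.symm) = ht ρ := ht_comp ρ
  have h3 := RGD.ht_pos hρ.pos.1 hρ.pos.2
  exact (hρ.ht_le ⟨h1, pos_of_ht h1 (by omega)⟩).2 h2

/-- The fixed points on a root group fixed by `β`. -/
theorem Fram.exists_fixed (R : RGD cs h p T n X) [Finite W] [Nonempty I] [CharP F 2] (C : Coords cs h T n X x χ)
    {r : I → ℤ} (hr : IsRoot cs h r) (hrσ : r ∘ σ.symm = r) : ∃ c m : F, c ≠ 0 ∧ m ≠ 0 ∧ c * τ m = m ∧
      ∀ a, β (x r a) = x r (c * τ a) := by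
  obtain ⟨c, hc, hcx⟩ := Tau.root R C H.tau hr
  have hcc := H.twice R C hr hrσ hcx
  rw [hrσ] at hcx
  obtain ⟨θ, hθ⟩ := exists_trace H.ne (c := c)
  exact ⟨c, θ + c * τ θ, hc, hθ, by rw [map_add, mul_add, hcc]; ring, hcx⟩

/-- **`C_{X ρ}(β) ≤ [C_U(β), C_U(β)]`** -/
theorem Fram.der (R : RGD cs h p T n X) [Finite W] [Nonempty I] [CharP F 2] (C : Coords cs h T n X x χ)
    (hs : SL cs h) (hN : Str cs h x) {ρ : I → ℤ} (hρ : Highest cs h ρ) {i : I} (hi : cpr cs h ρ (sr i) = 1)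
    (hσi : σ i = i ∨ cpr cs h (sr i) (sr (σ i)) = 0) {z : Y} (hz : z ∈ X ρ) (hβz : β z = z) :
    z ∈ ⁅CU cs h X β, CU cs h X β⁆ := by
  have hab := ab_of_coords C.coord
  have hri := isRoot_sr cs h i
  have hρσ := Fram.rho_comp H R hρ
  have hb : IsRoot cs h (ρ - sr i) := isRoot_sub hρ.pos.1 hri hi
  have hbk : ht (ρ - sr i) + 1 = ht ρ := by
    have h1 := RGD.ht_add (ρ - sr i) (sr i)
    rw [sub_add_cancel, ht_sr] at h1
    exact h1.symm
  have hbP : ρ - sr i ∈ RGD.Pos cs h := by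
    refine ⟨hb, pos_of_ht hb ?_⟩
    have h1 := ht_ne_zero hb
    have h2 := RGD.ht_pos hρ.pos.1 hρ.pos.2
    omega
  have hcab : cpr cs h (sr i) (ρ - sr i) = -1 :=
    cpr_of_add hs (sr_mem_pos i) hbP (by rw [add_sub_cancel]; exact hρ.pos.1)
  obtain ⟨N, hN0, hNe⟩ := hN _ _ hri hb hcab
  rw [add_sub_cancel] at hNe
  obtain ⟨cρ, -, hcρ⟩ := Tau.root R C H.tau hρ.pos.1
  rw [hρσ] at hcρ
  obtain ⟨l, rfl⟩ := ((C.coord ρ hρ.pos.1).mem z).1 hz
  have hl : cρ * τ l = l := by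
    rw [hcρ] at hβz
    exact (C.coord ρ hρ.pos.1).inj hβz
  have hxb : ∀ {r : I → ℤ}, r ∈ RGD.Pos cs h → ∀ a, x r a ∈ RGD.Sup X (RGD.Pos cs h) := fun hr a =>
    RGD.le_Sup hr (((C.coord _ hr.1).mem _).2 ⟨a, rfl⟩)
  by_cases hfi : σ i = i
  · have h1 : (sr i : I → ℤ) ∘ σ.symm = sr i := by rw [sr_comp, hfi]
    have h2 : (ρ - sr i) ∘ σ.symm = ρ - sr i := by
      show ρ ∘ σ.symm - sr i ∘ σ.symm = _
      rw [hρσ, h1]
    obtain ⟨ca, ma, -, hma, hca, hcax⟩ := Fram.exists_fixed H R C hri h1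
    obtain ⟨cb, mb, -, hmb, hcb, hcbx⟩ := Fram.exists_fixed H R C hb h2
    have h3 : cρ * τ (N * ma * mb) = N * ma * mb := by
      have h4 := congrArg β (hNe ma mb)
      rw [map_commutatorElement, hcax, hcbx, hca, hcb, hNe, hcρ] at h4
      exact ((C.coord ρ hρ.pos.1).inj h4).symm
    have hk : N * ma * mb ≠ 0 := mul_ne_zero (mul_ne_zero hN0 hma) hmb
    have hcρ0 : cρ ≠ 0 := by
      rintro rfl
      rw [zero_mul] at h3
      exact hk h3.symm
    obtain ⟨f, hf⟩ : ∃ f, f = l / (N * ma * mb) := ⟨_, rfl⟩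
    have hτf : τ f = f := by
      rw [hf, map_div₀]
      have h4 : τ (N * ma * mb) ≠ 0 := fun h4 => hk ((map_eq_zero τ).1 h4)
      rw [div_eq_div_iff h4 hk]
      apply mul_left_cancel₀ hcρ0
      calc cρ * (τ l * (N * ma * mb)) = cρ * τ l * (N * ma * mb) := by ring
        _ = l * (cρ * τ (N * ma * mb)) := by rw [hl, h3]
        _ = cρ * (l * τ (N * ma * mb)) := by ring
    have h4 : x ρ l = ⁅x (sr i) (f * ma), x (ρ - sr i) mb⁆ := by
      rw [hNe, hf]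
      congr 1
      field_simp
    rw [h4]
    refine Subgroup.commutator_mem_commutator ⟨hxb (sr_mem_pos i) _, ?_⟩ ⟨hxb hbP _, ?_⟩
    · rw [hcax, map_mul, hτf, mul_left_comm, hca]
    · rw [hcbx, hcb]
  · have hcp := hσi.resolve_left hfi
    have hrj := isRoot_sr cs h (σ i)
    have hcp' : cpr cs h (sr (σ i)) (sr i) = 0 := by rw [hs _ _ hrj hri]; exact hcp
    have hne : (sr i : I → ℤ) ≠ sr (σ i) := by
      intro h1
      have h2 := congrFun h1 i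
      rw [sr_self, sr_ne (Ne.symm hfi)] at h2
      exact one_ne_zero h2
    have hcomp : (ρ - sr i) ∘ σ.symm = ρ - sr (σ i) := by
      show ρ ∘ σ.symm - sr i ∘ σ.symm = _
      rw [hρσ, sr_comp]
    have hb' : IsRoot cs h (ρ - sr (σ i)) := by
      rw [← hcomp]
      exact isRoot_comp (H.tau.diag.matrix R) H.tau.cartan hb
    have hb'P : ρ - sr (σ i) ∈ RGD.Pos cs h := by
      refine ⟨hb', pos_of_ht hb' ?_⟩
      have h1 := RGD.ht_add (ρ - sr (σ i)) (sr (σ i))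
      rw [sub_add_cancel, ht_sr] at h1
      have h2 := (RGD.ht_pos hb hbP.2)
      omega
    have hj : cpr cs h ρ (sr (σ i)) = 1 := by
      have h1 := pairing_comp H.tau.cartan i ρ
      rw [hρσ] at h1
      rw [cpr_sr, h1, ← cpr_sr cs h, hi]
    -- Cartan numbers
    have k1 : cpr cs h (sr i) (ρ - sr (σ i)) = 1 := by
      rw [hs _ _ hri hb', cpr_sub' hri, hi, hcp', sub_zero]
    have k2 : cpr cs h (sr (σ i)) (ρ - sr i) = 1 := by
      rw [hs _ _ hrj hb, cpr_sub' hrj, hj, hcp, sub_zero]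
    have k3 : cpr cs h (ρ - sr i) (ρ - sr (σ i)) = 0 := by
      rw [cpr_sub' hb', k1, hs _ _ hρ.pos.1 hb', cpr_sub' hρ.pos.1, cpr_self cs h hρ.pos.1,
        hs _ _ hrj hρ.pos.1, hj]
      norm_num
    have hcomm : ∀ {r s : I → ℤ}, IsRoot cs h r → IsRoot cs h s → r ≠ s → r ≠ -s → 0 ≤ cpr cs h r s →
        ∀ {u v : Y}, u ∈ X r → v ∈ X s → u * v = v * u := fun hr hs' h1 h2 h3 _ _ hu hv =>
      comm_of_not_btwn R hr hs' h1 h2 (hs.not_btwn hr hs' h1 h3) hu hv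
    have hpos1 : ∀ {r s : I → ℤ}, r ∈ RGD.Pos cs h → s ∈ RGD.Pos cs h → r ≠ -s := fun hr hs' => ne_neg_of_pos hr hs'
    have hne2 : ∀ {r s : I → ℤ}, IsRoot cs h s → cpr cs h r s ≠ 2 → r ≠ s := by
      rintro r s hs' h1 rfl
      exact h1 (cpr_self cs h hs')
    -- the four elements
    obtain ⟨μ, hμ⟩ : ∃ μ, μ + cρ * τ μ = l := by
      have hcc := H.twice R C hρ.pos.1 hρσ (c := cρ) (by rw [hρσ]; exact hcρ)
      exact exists_sub H.ne hcc hl
    obtain ⟨p, hp⟩ : ∃ p, p = x (sr i) 1 := ⟨_, rfl⟩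
    obtain ⟨q, hq⟩ : ∃ q, q = x (ρ - sr i) (μ / N) := ⟨_, rfl⟩
    have hpX : p ∈ X (sr i) := hp ▸ ((C.coord _ hri).mem _).2 ⟨_, rfl⟩
    have hqX : q ∈ X (ρ - sr i) := hq ▸ ((C.coord _ hb).mem _).2 ⟨_, rfl⟩
    have hpX' : β p ∈ X (sr (σ i)) := by
      have := (Diag.root_comp R H.tau.diag H.tau.cartan hri p).2 hpX
      rwa [sr_comp] at this
    have hqX' : β q ∈ X (ρ - sr (σ i)) := by
      have := (Diag.root_comp R H.tau.diag H.tau.cartan hb q).2 hqX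
      rwa [hcomp] at this
    have hz0 : ⁅p, q⁆ = x ρ μ := by
      rw [hp, hq, hNe]
      congr 1
      field_simp
    have hz1 : ⁅β p, β q⁆ = x ρ (cρ * τ μ) := by
      rw [← map_commutatorElement, hz0, hcρ]
    have e1 : p * β p = β p * p := hcomm hri hrj hne (hpos1 (sr_mem_pos i) (sr_mem_pos _)) hcp.ge hpX hpX'
    have e2 : q * β q = β q * q :=
      hcomm hb hb' (hne2 hb' (by rw [k3]; norm_num)) (hpos1 hbP hb'P) k3.ge hqX hqX'
    have e3 : p * β q = β q * p :=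
      hcomm hri hb' (hne2 hb' (by rw [k1]; norm_num)) (hpos1 (sr_mem_pos i) hb'P) (by rw [k1]; norm_num) hpX hqX'
    have e4 : β p * q = q * β p :=
      hcomm hrj hb (hne2 hb (by rw [k2]; norm_num)) (hpos1 (sr_mem_pos _) hbP) (by rw [k2]; norm_num) hpX' hqX
    have hpU : p ∈ RGD.Sup X (RGD.Pos cs h) := RGD.le_Sup (sr_mem_pos i) hpX
    have hpU' : β p ∈ RGD.Sup X (RGD.Pos cs h) := RGD.le_Sup (sr_mem_pos _) hpX'
    have hqU : q ∈ RGD.Sup X (RGD.Pos cs h) := RGD.le_Sup hbP hqX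
    have hqU' : β q ∈ RGD.Sup X (RGD.Pos cs h) := RGD.le_Sup hb'P hqX'
    have hcen : ∀ a, ∀ u ∈ RGD.Sup X (RGD.Pos cs h), x ρ a * u = u * x ρ a := fun a u hu =>
      central R hs hab hρ (((C.coord ρ hρ.pos.1).mem _).2 ⟨a, rfl⟩) hu
    have hkey : ⁅p * β p, q * β q⁆ = x ρ l := by
      have h1 : p * q = x ρ μ * (q * p) := by
        rw [← hz0, commutatorElement_def]; group
      have h2 : β p * β q = x ρ (cρ * τ μ) * (β q * β p) := by
        rw [← hz1, commutatorElement_def]; group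
      have h3 : p * β p * (q * β q) = x ρ l * (q * β q * (p * β p)) := by
        calc p * β p * (q * β q) = p * (β p * q) * β q := by group
          _ = (p * q) * (β p * β q) := by rw [e4]; group
          _ = x ρ μ * (q * p) * (x ρ (cρ * τ μ) * (β q * β p)) := by rw [h1, h2]
          _ = x ρ μ * (q * p * x ρ (cρ * τ μ)) * (β q * β p) := by group
          _ = x ρ μ * (x ρ (cρ * τ μ) * (q * p)) * (β q * β p) := by rw [hcen _ _ (mul_mem hqU hpU)]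
          _ = (x ρ μ * x ρ (cρ * τ μ)) * (q * (p * β q) * β p) := by group
          _ = x ρ l * (q * (β q * p) * β p) := by rw [e3, ← (C.coord ρ hρ.pos.1).add, hμ]
          _ = _ := by group
      rw [commutatorElement_def, h3]
      group
    rw [← hkey]
    refine Subgroup.commutator_mem_commutator ⟨mul_mem hpU hpU', ?_⟩ ⟨mul_mem hqU hqU', ?_⟩
    · rw [map_mul, H.sq, e1]
    · rw [map_mul, H.sq, e2]

end

end Cfsg.Agent.KFacts.RgdFld.Der
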