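import Mathlib
import Cfsg.Agent.KFacts.RgdFld.Der

/-!
# The dominant root of a connected simply laced diagram

* `highest` : the dominant root is the highest root;
* `exists_node` : a node `i` with `⟨ρ, α_i^∨⟩ = 1` (rank at least two);
* `adj` : two distinct such nodes exchanged by a symmetry are orthogonal, or `ρ = α_i + α_{σ i}`;
* `der_adj`, `der_all` : `C_{X ρ}(β) ≤ [C_U(β), C_U(β)]` for every frame involution with nontrivial field part.
-/

set_option autoImplicit false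
set_option linter.unusedSectionVars false

namespace Cfsg.Agent.KFacts.RgdFld.Dom

open CoxeterSystem Cfsg.Agent.ChevalleyStructure.CoxeterGeom Cfsg.Agent.Tits.Roots Cfsg.Agent.Tits.Core
  Cfsg.Agent.Tits.Exchange Cfsg.Agent.Nodes.Reps Cfsg.Agent.Nodes.BNOf Cfsg.Agent.Nodes.StabComb
  Cfsg.Agent.Nodes.Bruhat Cfsg.Agent.Nodes.OppDec Cfsg.Agent.Nodes.PosPair Cfsg.Agent.Nodes.Coroot
  Cfsg.Agent.KFacts.RgdSL Cfsg.Agent.KFacts.RgdAut Cfsg.Agent.KFacts.RgdDiag
  Cfsg.Agent.KFacts.RgdFld.Layer Cfsg.Agent.KFacts.RgdField Cfsg.Agent.KFacts.RgdTau Cfsg.Agent.KFacts.RgdFld.Coh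
  Cfsg.Agent.KFacts.RgdFld.Center Cfsg.Agent.KFacts.RgdFld.Der
open scoped commutatorElement

variable {I W Y : Type*} [Fintype I] [DecidableEq I] [Group W] [Group Y] {M : CoxeterMatrix I}
  {cs : CoxeterSystem M W} {A : I → I → ℤ} {h : IsCartan M A} {p : ℕ} {T : Subgroup Y} {n : I → Y}
  {X : (I → ℤ) → Subgroup Y} {F : Type*} [Field F] {x : (I → ℤ) → F → Y} {χ : (I → ℤ) → Y → F}

section Comb

/-- `b` is dominant -/
def Dm (cs : CoxeterSystem M W) (h : IsCartan M A) (b : I → ℤ) : Prop := ∀ i, 0 ≤ cpr cs h (sr i) b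

theorem cpr_sum [Finite W] {b : I → ℤ} (hb : IsRoot cs h b) (a : I → ℤ) :
    cpr cs h a b = ∑ i, a i * cpr cs h (sr i) b := by
  have e : a = ∑ i, a i • (sr i : I → ℤ) := by
    funext j
    rw [Finset.sum_apply]
    rw [Finset.sum_eq_single j]
    · rw [Pi.smul_apply, sr_self, smul_eq_mul, mul_one]
    · intro i _ hi
      rw [Pi.smul_apply, sr_ne (Ne.symm hi), smul_zero]
    · intro hj; exact absurd (Finset.mem_univ j) hj
  have h1 : ell cs h hb a = ∑ i, a i * ell cs h hb (sr i) := by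
    conv_lhs => rw [e]
    rw [map_sum]
    exact Finset.sum_congr rfl fun i _ => by rw [map_zsmul, smul_eq_mul]
  exact h1

theorem Dm.nonneg [Finite W] {b : I → ℤ} (hb : IsRoot cs h b) (hd : Dm cs h b) {a : I → ℤ} (ha : 0 ≤ a) :
    0 ≤ cpr cs h a b := by
  rw [cpr_sum hb]
  exact Finset.sum_nonneg fun i _ => mul_nonneg (ha i) (hd i)

theorem Dm.pos [Finite W] {b : I → ℤ} (hb : IsRoot cs h b) (hd : Dm cs h b) : b ∈ RGD.Pos cs h := by
  refine ⟨hb, ?_⟩
  rcases hb.pos_or_neg with h1 | h1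
  · exact h1
  exfalso
  have h2 := hd.nonneg hb (a := -b) (neg_nonneg.2 h1)
  rw [cpr_neg_left _ hb, cpr_self cs h hb] at h2
  omega

variable (hconn : ∀ J : Set I, J.Nonempty → J ≠ Set.univ → ∃ a ∈ J, ∃ b, b ∉ J ∧ M a b ≠ 2)

include hconn

/-- a dominant root has full support -/
theorem Dm.supp [Finite W] (hs : SL cs h) {b : I → ℤ} (hb : IsRoot cs h b) (hd : Dm cs h b) (i : I) : 0 < b i := by
  have hbP := hd.pos hb
  by_contra hi
  have hb0 : ∃ j, 0 < b j := by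
    by_contra hcon
    push Not at hcon
    exact hb.ne_zero (le_antisymm hcon hbP.2)
  obtain ⟨a, ha, c, hc, hac⟩ := hconn {j | 0 < b j} hb0 (fun h1 => hi (h1 ▸ Set.mem_univ i : i ∈ {j | 0 < b j}))
  have hc0 : b c = 0 := le_antisymm (not_lt.1 hc) (hbP.2 c)
  have h1 : 0 ≤ cpr cs h b (sr c) := by
    rw [hs _ _ hb (isRoot_sr cs h c)]
    exact hd c
  rw [cpr_sr] at h1
  have h2 : ∀ k, A c k * b k ≤ 0 := by
    intro k
    by_cases hk : k = c
    · rw [hk, hc0, mul_zero]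
    · have h3 : A c k ≤ 0 := by
        rcases h.rel c k (Ne.symm hk) with ⟨-, h4, -⟩ | ⟨-, h4, -⟩ | ⟨-, ⟨h4, -⟩ | ⟨h4, -⟩⟩ | ⟨-, ⟨h4, -⟩ | ⟨h4, -⟩⟩ <;> omega
      exact mul_nonpos_of_nonpos_of_nonneg h3 (hbP.2 k)
  have hca : c ≠ a := by
    rintro rfl
    exact hc ha
  have h3 : A c a * b a < 0 := by
    have h4 : A c a < 0 := by
      have h5 : M c a ≠ 2 := by rwa [M.symmetric]
      rcases h.rel c a hca with ⟨h6, -⟩ | ⟨-, h4, -⟩ | ⟨-, ⟨h4, -⟩ | ⟨h4, -⟩⟩ | ⟨-, ⟨h4, -⟩ | ⟨h4, -⟩⟩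
      · exact absurd h6 h5
      all_goals omega
    exact mul_neg_of_neg_of_pos h4 ha
  have h4 : pairing A c b < 0 := by
    unfold pairing
    exact Finset.sum_neg' (fun k _ => h2 k) ⟨a, Finset.mem_univ a, h3⟩
  omega

/-- **The dominant root is the highest root.** -/
theorem highest [Finite W] (hs : SL cs h) {ρ : I → ℤ} (hρ : IsRoot cs h ρ) (hd : Dm cs h ρ) : Highest cs h ρ where
  pos := hd.pos hρ
  up := by
    intro a ha hne
    by_contra hcon
    push Not at hcon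
    have hda : Dm cs h a := by
      intro i
      by_contra h1
      have hi := isRoot_sr cs h i
      rcases hs.cases hi ha.1 with ⟨-, h2⟩ | ⟨h2, -⟩ | ⟨-, -, h2, -⟩
      · omega
      · have h3 := ne_neg_of_pos (sr_mem_pos i) ha
        exact h3 h2
      · apply hcon i
        rw [add_comm]
        exact isRoot_add hi ha.1 (by omega)
    have hρP := hd.pos hρ
    rcases hs.cases ha.1 hρ with ⟨h2, -⟩ | ⟨h2, -⟩ | ⟨-, -, h2, h3⟩
    · exact hne h2
    · exact ne_neg_of_pos ha hρP h2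
    · have h4 := hd.nonneg hρ ha.2
      by_cases h5 : cpr cs h a ρ = 0
      · have h6 : ∀ i, cpr cs h (sr i) ρ = 0 := by
          intro i
          by_contra h7
          have h8 : 0 < a i * cpr cs h (sr i) ρ :=
            mul_pos (hda.supp hconn hs ha.1 i) (lt_of_le_of_ne (hd i) (Ne.symm h7))
          have h9 : 0 < cpr cs h a ρ := by
            rw [cpr_sum hρ]
            exact Finset.sum_pos' (fun k _ => mul_nonneg (ha.2 k) (hd k)) ⟨i, Finset.mem_univ i, h8⟩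
          omega
        have h7 := cpr_self cs h hρ
        rw [cpr_sum hρ, Finset.sum_eq_zero fun i _ => by rw [h6 i, mul_zero]] at h7
        omega
      · have h6 : cpr cs h a ρ = 1 := by omega
        have h7 := isRoot_sub ha.1 hρ h6
        rcases h7.pos_or_neg with h8 | h8
        · have h9 := hd.nonneg hρ h8
          rw [cpr_sub' hρ, h6, cpr_self cs h hρ] at h9
          omega
        · have h9 := hda.nonneg ha.1 (a := -(a - ρ)) (neg_nonneg.2 h8)
          rw [cpr_neg_left _ ha.1, cpr_sub' ha.1, cpr_self cs h ha.1, hs _ _ hρ ha.1, h6] at h9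
          omega

/-- **A node adjacent to the lowest root.** -/
theorem exists_node [Finite W] [Nontrivial I] (hs : SL cs h) {ρ : I → ℤ} (hρ : IsRoot cs h ρ) (hd : Dm cs h ρ) :
    ∃ i, cpr cs h ρ (sr i) = 1 := by
  by_contra hcon
  push Not at hcon
  have h6 : ∀ i, cpr cs h (sr i) ρ = 0 := by
    intro i
    have hi := isRoot_sr cs h i
    have h1 := hcon i
    rw [hs _ _ hρ hi] at h1
    rcases hs.cases hi hρ with ⟨h2, -⟩ | ⟨h2, -⟩ | ⟨-, -, h2, h3⟩
    · exfalso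
      obtain ⟨j, hj⟩ := exists_ne i
      have h3 := hd.supp hconn hs hρ j
      rw [← h2, sr_ne hj] at h3
      exact lt_irrefl _ h3
    · exact absurd h2 (ne_neg_of_pos (sr_mem_pos i) (hd.pos hρ))
    · have := hd i
      omega
  have h7 := cpr_self cs h hρ
  rw [cpr_sum hρ, Finset.sum_eq_zero fun i _ => by rw [h6 i, mul_zero]] at h7
  omega

omit hconn in
theorem cpr_simple [Finite W] (hs : SL cs h) {i j : I} (hij : i ≠ j) :
    cpr cs h (sr i) (sr j) = 0 ∨ cpr cs h (sr i) (sr j) = -1 := by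
  have hi := isRoot_sr cs h i
  have hj := isRoot_sr cs h j
  rcases hs.cases hi hj with ⟨h2, -⟩ | ⟨h2, -⟩ | ⟨-, -, h2, h3⟩
  · exfalso
    have h3 := congrFun h2 i
    rw [sr_self, sr_ne hij] at h3
    exact one_ne_zero h3
  · exact absurd h2 (ne_neg_of_pos (cs := cs) (h := h) (sr_mem_pos i) (sr_mem_pos j))
  · by_cases h4 : cpr cs h (sr i) (sr j) = 1
    · exfalso
      have h5 := isRoot_sub hi hj h4
      rcases h5.pos_or_neg with h6 | h6
      · have := h6 j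
        rw [Pi.sub_apply, sr_self, sr_ne (Ne.symm hij)] at this
        norm_num at this
      · have := h6 i
        rw [Pi.sub_apply, sr_self, sr_ne hij] at this
        norm_num at this
    · omega

omit hconn in
/-- Two nodes adjacent to the lowest root. -/
theorem adj [Finite W] (hs : SL cs h) {ρ : I → ℤ} (hρ : IsRoot cs h ρ) {i j : I} (hij : i ≠ j)
    (hi : cpr cs h ρ (sr i) = 1) (hj : cpr cs h ρ (sr j) = 1) :
    cpr cs h (sr i) (sr j) = 0 ∨ sr i + sr j = ρ := by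
  have hri := isRoot_sr cs h i
  have hrj := isRoot_sr cs h j
  rcases cpr_simple hs hij with h1 | h1
  · exact Or.inl h1
  · right
    apply hs.eq_of_cpr (isRoot_add hri hrj h1) hρ
    rw [cpr_add cs h _ _ hρ, ← hs _ _ hρ hri, ← hs _ _ hρ hrj, hi, hj]
    norm_num

end Comb

section

variable {β : MulAut Y} {σ : Equiv.Perm I} {τ : F ≃+* F} (H : Fram T X χ A β σ τ)

include H

/-- The case `ρ = α_i + α_{σ i}` (type `A₂`). -/
theorem der_adj (R : RGD cs h p T n X) [Finite W] [Nonempty I] [CharP F 2] (C : Coords cs h T n X x χ)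
    (hs : SL cs h) (hN : Str cs h x) {ρ : I → ℤ} (hρ : Highest cs h ρ) {i : I}
    (hi : sr i + sr (σ i) = ρ) {z : Y} (hz : z ∈ X ρ) (hβz : β z = z) :
    z ∈ ⁅CU cs h X β, CU cs h X β⁆ := by
  have hab := ab_of_coords C.coord
  have hri := isRoot_sr cs h i
  have hrj := isRoot_sr cs h (σ i)
  have hρσ := Fram.rho_comp H R hρ
  have hcp : cpr cs h (sr i) (sr (σ i)) = -1 :=
    cpr_of_add hs (sr_mem_pos i) (sr_mem_pos _) (by rw [hi]; exact hρ.pos.1)
  obtain ⟨N, hN0, hNe⟩ := hN _ _ hri hrj hcp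
  rw [hi] at hNe
  obtain ⟨c, hc0, hcx⟩ := Tau.root R C H.tau hri
  rw [sr_comp] at hcx
  obtain ⟨cρ, -, hcρ⟩ := Tau.root R C H.tau hρ.pos.1
  rw [hρσ] at hcρ
  obtain ⟨l, rfl⟩ := ((C.coord ρ hρ.pos.1).mem z).1 hz
  have hl : cρ * τ l = l := by
    rw [hcρ] at hβz
    exact (C.coord ρ hρ.pos.1).inj hβz
  have hcen : ∀ z ∈ X ρ, ∀ u ∈ RGD.Sup X (RGD.Pos cs h), z * u = u * z := fun z hz u hu => central R hs hab hρ hz hu
  have hXU : ∀ (j : I) (a : F), x (sr j) a ∈ RGD.Sup X (RGD.Pos cs h) := fun j a =>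
    RGD.le_Sup (sr_mem_pos j) (((C.coord _ (isRoot_sr cs h j)).mem _).2 ⟨a, rfl⟩)
  have hlay : RGD.Sup X (Lay cs h 2) ≤ X ρ := by
    have h2 : Lay cs h 2 ⊆ {ρ} := by
      rintro z ⟨hz, hz2⟩
      have hzP : z ∈ RGD.Pos cs h := ⟨hz, pos_of_ht hz (by omega)⟩
      obtain ⟨h3, h4⟩ := hρ.ht_le hzP
      have h5 : ht ρ = 2 := by rw [← hi, RGD.ht_add, ht_sr, ht_sr]; norm_num
      exact h4 (by omega)
    rw [← Sup_one (X := X) ρ]
    exact RGD.Sup_mono h2
  -- the fixed elements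
  have hw : ∀ a, ∃ s ∈ X ρ, x (sr i) a * x (sr (σ i)) (c * τ a) * s ∈ CU cs h X β := by
    intro a
    obtain ⟨s, hsm, hsf⟩ := H.exists_fix R C hs hcx a
    have hs' := hlay hsm
    exact ⟨s, hs', mul_mem (mul_mem (hXU _ _) (hXU _ _)) (RGD.Sup_mono (lay_sub (by norm_num)) hsm), hsf⟩
  -- commutators
  have hcomm : ∀ a b, x ρ (N * c * (a * τ b + b * τ a)) ∈ ⁅CU cs h X β, CU cs h X β⁆ := by
    intro a b
    obtain ⟨s, hsX, hsC⟩ := hw a
    obtain ⟨s', hsX', hsC'⟩ := hw b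
    have h1 := Subgroup.commutator_mem_commutator hsC hsC'
    obtain ⟨P, hP⟩ : ∃ P, P = x (sr i) a * x (sr (σ i)) (c * τ a) := ⟨_, rfl⟩
    obtain ⟨Q, hQ⟩ : ∃ Q, Q = x (sr i) b * x (sr (σ i)) (c * τ b) := ⟨_, rfl⟩
    have hPU : P ∈ RGD.Sup X (RGD.Pos cs h) := hP ▸ mul_mem (hXU _ _) (hXU _ _)
    have hQU : Q ∈ RGD.Sup X (RGD.Pos cs h) := hQ ▸ mul_mem (hXU _ _) (hXU _ _)
    rw [← hP, ← hQ] at h1
    have h2 : ⁅P * s, Q * s'⁆ = ⁅P, Q⁆ := by
      have hsU : s ∈ RGD.Sup X (RGD.Pos cs h) := RGD.le_Sup hρ.pos hsX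
      have e1 : s * (Q * s') = Q * s' * s := hcen s hsX _ (mul_mem hQU (RGD.le_Sup hρ.pos hsX'))
      have e2 : s' * P⁻¹ = P⁻¹ * s' := hcen s' hsX' _ (inv_mem hPU)
      rw [commutatorElement_def, commutatorElement_def]
      calc P * s * (Q * s') * (P * s)⁻¹ * (Q * s')⁻¹ = P * (s * (Q * s')) * s⁻¹ * P⁻¹ * s'⁻¹ * Q⁻¹ := by group
        _ = P * Q * (s' * P⁻¹) * s'⁻¹ * Q⁻¹ := by rw [e1]; group
        _ = P * Q * P⁻¹ * Q⁻¹ := by rw [e2]; group
    rw [h2] at h1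
    -- the formula
    have hij : ∀ a b, x (sr i) a * x (sr (σ i)) b = x ρ (N * a * b) * (x (sr (σ i)) b * x (sr i) a) := by
      intro a b
      rw [← hNe, commutatorElement_def]; group
    have hcρ' : ∀ k, ∀ u ∈ RGD.Sup X (RGD.Pos cs h), x ρ k * u = u * x ρ k := fun k u hu =>
      hcen _ (((C.coord ρ hρ.pos.1).mem _).2 ⟨k, rfl⟩) u hu
    have hPQ : ∀ a a' b b', x (sr i) a * x (sr (σ i)) a' * (x (sr i) b * x (sr (σ i)) b') * x ρ (N * b * a') =
        x (sr i) (a + b) * x (sr (σ i)) (a' + b') := by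
      intro a a' b b'
      rw [(C.coord _ hri).add, (C.coord _ hrj).add]
      calc x (sr i) a * x (sr (σ i)) a' * (x (sr i) b * x (sr (σ i)) b') * x ρ (N * b * a') =
          x (sr i) a * x (sr (σ i)) a' * x (sr i) b * (x (sr (σ i)) b' * x ρ (N * b * a')) := by group
        _ = x (sr i) a * (x (sr (σ i)) a' * x (sr i) b * x ρ (N * b * a')) * x (sr (σ i)) b' := by
          rw [← hcρ' _ _ (hXU _ _)]; group
        _ = x (sr i) a * (x ρ (N * b * a') * (x (sr (σ i)) a' * x (sr i) b)) * x (sr (σ i)) b' := by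
          rw [hcρ' _ _ (mul_mem (hXU _ _) (hXU _ _))]
        _ = x (sr i) a * (x (sr i) b * x (sr (σ i)) a') * x (sr (σ i)) b' := by rw [← hij]
        _ = x (sr i) a * x (sr i) b * (x (sr (σ i)) a' * x (sr (σ i)) b') := by group
    have h3 : ⁅P, Q⁆ = x ρ (N * c * (a * τ b + b * τ a)) := by
      have e1 := hPQ a (c * τ a) b (c * τ b)
      have e2 := hPQ b (c * τ b) a (c * τ a)
      rw [← hP, ← hQ] at e1 e2
      rw [add_comm b a, add_comm (c * τ b) (c * τ a), ← e1] at e2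
      -- `Q P x ρ (N a c τ b) = P Q x ρ (N b c τ a)`
      have e3 : P * Q = x ρ (N * c * (a * τ b + b * τ a)) * (Q * P) := by
        have e4 : x ρ (N * b * (c * τ a)) * x ρ (N * b * (c * τ a)) = 1 := by
          rw [← (C.coord ρ hρ.pos.1).add, CharTwo.add_self_eq_zero, (C.coord ρ hρ.pos.1).zero]
        calc P * Q = P * Q * (x ρ (N * b * (c * τ a)) * x ρ (N * b * (c * τ a))) := by rw [e4, mul_one]
          _ = Q * P * x ρ (N * a * (c * τ b)) * x ρ (N * b * (c * τ a)) := by rw [← mul_assoc, ← e2]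
          _ = Q * P * x ρ (N * c * (a * τ b + b * τ a)) := by
            rw [mul_assoc, ← (C.coord ρ hρ.pos.1).add]
            congr 2
            ring
          _ = _ := by rw [hcρ' _ _ (mul_mem hQU hPU)]
      rw [commutatorElement_def, e3]; group
    rw [← h3]
    exact h1
  -- a nonzero one
  obtain ⟨θ, hθ⟩ := exists_trace H.ne (c := 1)
  rw [one_mul] at hθ
  obtain ⟨m, hm⟩ : ∃ m, m = N * c * (θ + τ θ) := ⟨_, rfl⟩
  have hm0 : m ≠ 0 := by rw [hm]; exact mul_ne_zero (mul_ne_zero hN0 hc0) hθ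
  have hmx : x ρ m ∈ ⁅CU cs h X β, CU cs h X β⁆ := by
    have := hcomm θ 1
    rwa [map_one, mul_one, one_mul, ← hm] at this
  have hmf : cρ * τ m = m := by
    have h1 : ⁅CU cs h X β, CU cs h X β⁆ ≤ CU cs h X β := by
      rw [Subgroup.commutator_le]
      intro g₁ h₁ g₂ h₂
      rw [commutatorElement_def]
      exact mul_mem (mul_mem (mul_mem h₁ h₂) (inv_mem h₁)) (inv_mem h₂)
    have h2 := (h1 hmx).2
    rw [hcρ] at h2
    exact (C.coord ρ hρ.pos.1).inj h2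
  have hcρ0 : cρ ≠ 0 := by
    rintro rfl
    rw [zero_mul] at hmf
    exact hm0 hmf.symm
  obtain ⟨f, hf⟩ : ∃ f, f = l / m := ⟨_, rfl⟩
  have hτf : τ f = f := by
    rw [hf, map_div₀]
    have h4 : τ m ≠ 0 := fun h4 => hm0 ((map_eq_zero τ).1 h4)
    rw [div_eq_div_iff h4 hm0]
    apply mul_left_cancel₀ hcρ0
    calc cρ * (τ l * m) = cρ * τ l * m := by ring
      _ = l * (cρ * τ m) := by rw [hl, hmf]
      _ = cρ * (l * τ m) := by ring
  have h1 := hcomm (f * θ) 1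
  have h2 : N * c * (f * θ * τ 1 + 1 * τ (f * θ)) = l := by
    rw [map_one, mul_one, one_mul, map_mul, hτf]
    calc N * c * (f * θ + f * τ θ) = f * (N * c * (θ + τ θ)) := by ring
      _ = l := by rw [← hm, hf, div_mul_cancel₀ _ hm0]
  rwa [h2] at h1

/-- **`C_{X ρ}(β) ≤ [C_U(β), C_U(β)]`** -/
theorem der_all (R : RGD cs h p T n X) [Finite W] [Nonempty I] [CharP F 2] (C : Coords cs h T n X x χ)
    (hs : SL cs h) (hN : Str cs h x) {ρ : I → ℤ} (hρ : Highest cs h ρ) {i : I} (hi : cpr cs h ρ (sr i) = 1)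
    {z : Y} (hz : z ∈ X ρ) (hβz : β z = z) : z ∈ ⁅CU cs h X β, CU cs h X β⁆ := by
  by_cases hfi : σ i = i
  · exact Fram.der H R C hs hN hρ hi (Or.inl hfi) hz hβz
  have hj : cpr cs h ρ (sr (σ i)) = 1 := by
    have h1 := pairing_comp H.tau.cartan i ρ
    rw [Fram.rho_comp H R hρ] at h1
    rw [cpr_sr, h1, ← cpr_sr cs h, hi]
  rcases adj hs hρ.pos.1 (Ne.symm hfi) hi hj with h1 | h1
  · exact Fram.der H R C hs hN hρ hi (Or.inr h1) hz hβz
  · exact der_adj H R C hs hN hρ h1 hz hβz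

end

end Cfsg.Agent.KFacts.RgdFld.Dom
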