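import Mathlib
import Cfsg.Agent.KFacts.RgdTau

/-!
# The homomorphism `Aut Y → Sym I × Aut F` of a finite group with a root group datum

* `Tau.fix_U`, `Tau.fix_UN` : an automorphism with a diagram symmetry fixes `U` and `U⁻`;
* `exists_conj_fix` : every automorphism fixes `U` up to an inner automorphism;
* `exists_phi` : the homomorphism `φ` with `φ α = (σ, τ)` iff `conj y * α` has the symmetry `(σ, τ)` for some `y`.
-/

set_option autoImplicit false
set_option linter.unusedSectionVars false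

namespace Cfsg.Agent.KFacts.RgdFld.Hom

open CoxeterSystem Cfsg.Agent.ChevalleyStructure.CoxeterGeom Cfsg.Agent.Tits.Roots Cfsg.Agent.Tits.Core
  Cfsg.Agent.Tits.Exchange Cfsg.Agent.Nodes.Reps Cfsg.Agent.Nodes.BNOf Cfsg.Agent.Nodes.StabComb
  Cfsg.Agent.Nodes.Bruhat Cfsg.Agent.Nodes.OppDec Cfsg.Agent.Nodes.LeviDec Cfsg.Agent.Nodes.NormalForm
  Cfsg.Agent.KFacts.RgdOpp Cfsg.Agent.KFacts.RgdAut Cfsg.Agent.KFacts.RgdDiag Cfsg.Agent.KFacts.RgdRigid
  Cfsg.Agent.KFacts.RgdField Cfsg.Agent.KFacts.RgdTau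
open scoped commutatorElement

variable {I W Y : Type*} [Fintype I] [DecidableEq I] [Group W] [Group Y] {M : CoxeterMatrix I}
  {cs : CoxeterSystem M W} {A : I → I → ℤ} {h : IsCartan M A} {p : ℕ} {T : Subgroup Y} {n : I → Y}
  {X : (I → ℤ) → Subgroup Y} {F : Type*} [Field F] {x : (I → ℤ) → F → Y} {χ : (I → ℤ) → Y → F} {hh : I → F → Y}

theorem root_comp' {σ : Equiv.Perm I} (hσ : ∀ i j, M (σ i) (σ j) = M i j) (hA : ∀ i j, A (σ i) (σ j) = A i j)
    {r : I → ℤ} (hr : IsRoot cs h r) : IsRoot cs h (r ∘ σ.symm) := by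
  obtain ⟨w, i, rfl⟩ := hr
  rw [← rep_hat hσ hA, sr_comp]
  exact ⟨_, _, rfl⟩

section

variable (R : RGD cs h p T n X)

include R

/-- An automorphism with a diagram symmetry maps the group of a set of roots, closed under the symmetry, to itself. -/
theorem Tau.map_Sup [Finite W] {β : MulAut Y} {σ : Equiv.Perm I} {τ : F ≃+* F} (S : Tau T X χ A β σ τ)
    {P : Set (I → ℤ)} (hP : ∀ r ∈ P, IsRoot cs h r) (hPσ : ∀ r ∈ P, r ∘ σ.symm ∈ P) {y : Y}
    (hy : y ∈ RGD.Sup X P) : β y ∈ RGD.Sup X P := by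
  have h1 : RGD.Sup X P ≤ (RGD.Sup X P).comap β.toMonoidHom := by
    refine RGD.Sup_le fun r hr v hv => ?_
    exact RGD.le_Sup (hPσ r hr) ((Diag.root_comp R S.diag S.cartan (hP r hr) v).2 hv)
  exact h1 hy

theorem Tau.fix_Sup [Finite W] {β : MulAut Y} {σ : Equiv.Perm I} {τ : F ≃+* F} (S : Tau T X χ A β σ τ)
    {P : Set (I → ℤ)} (hP : ∀ r ∈ P, IsRoot cs h r)
    (hPσ : ∀ σ : Equiv.Perm I, (∀ i j, M (σ i) (σ j) = M i j) → (∀ i j, A (σ i) (σ j) = A i j) →
      ∀ r ∈ P, r ∘ σ.symm ∈ P) : Fix β (RGD.Sup X P) := by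
  intro y
  refine ⟨fun hy => ?_, Tau.map_Sup R S hP (hPσ σ (S.diag.matrix R) S.cartan)⟩
  have h1 := Tau.map_Sup R S.inv hP (hPσ σ⁻¹ (S.inv.diag.matrix R) S.inv.cartan) hy
  rwa [MulAut.inv_apply_self] at h1

/-- An automorphism with a diagram symmetry fixes `U`. -/
theorem Tau.fix_U [Finite W] {β : MulAut Y} {σ : Equiv.Perm I} {τ : F ≃+* F} (S : Tau T X χ A β σ τ) :
    Fix β (RGD.Sup X (RGD.Pos cs h)) :=
  Tau.fix_Sup R S (fun _ hr => hr.1) fun σ hσ hA _ hr => ⟨root_comp' hσ hA hr.1, fun i => hr.2 (σ.symm i)⟩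

/-- An automorphism with a diagram symmetry fixes `U⁻`. -/
theorem Tau.fix_UN [Finite W] {β : MulAut Y} {σ : Equiv.Perm I} {τ : F ≃+* F} (S : Tau T X χ A β σ τ) :
    Fix β (UN cs h X) :=
  Tau.fix_Sup R S (fun _ hr => hr.1) fun σ hσ hA _ hr => ⟨root_comp' hσ hA hr.1, fun i => hr.2 (σ.symm i)⟩

/-- Torus elements induce automorphisms with trivial symmetry. -/
theorem tau_conj [Finite W] (C : Coords cs h T n X x χ) {t : Y} (ht : t ∈ T) :
    Tau T X χ A (MulAut.conj t) 1 1 where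
  diag := by
    have key : ∀ (H : Subgroup Y) (t : Y), cj t H = H → ∀ y, MulAut.conj t y ∈ H ↔ y ∈ H := by
      intro H t hH y
      rw [MulAut.conj_apply]
      constructor
      · intro h1
        rw [← hH, mem_cj] at h1
        have e : t⁻¹ * (t * y * t⁻¹) * t = y := by group
        rwa [e] at h1
      · intro h1
        rw [← hH, mem_cj]
        have e : t⁻¹ * (t * y * t⁻¹) * t = y := by group
        rwa [e]
    refine ⟨fun y => ?_, fun i y => ?_, fun i y => ?_⟩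
    · rw [MulAut.conj_apply]
      constructor
      · intro h1
        have e : y = t⁻¹ * (t * y * t⁻¹) * t := by group
        rw [e]
        exact mul_mem (mul_mem (inv_mem ht) h1) ht
      · intro h1
        exact mul_mem (mul_mem ht h1) (inv_mem ht)
    · exact key _ t (R.tor _ (isRoot_sr cs h i) t ht) y
    · exact key _ t (R.tor _ (isRoot_sr cs h i).neg t ht) y
  cartan _ _ := rfl
  char i s hs := (C.coord _ (isRoot_sr cs h i)).chi_conj ht hs

/-- The symmetry of an inner automorphism is trivial. -/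
theorem Tau.inner [Finite W] [Nonempty I] (hG1 : RGD.Sup X {x | IsRoot cs h x} = ⊤) (C : Coords cs h T n X x χ)
    {z : Y} {σ : Equiv.Perm I} {τ : F ≃+* F} (S : Tau T X χ A (MulAut.conj z) σ τ) : σ = 1 ∧ τ = 1 := by
  have hG := GG_eq_top (T := T) hG1
  have h1 : z ∈ Subgroup.normalizer (RGD.Sup X (RGD.Pos cs h) : Set Y) := by
    rw [Subgroup.mem_normalizer_iff]
    intro y
    rw [← MulAut.conj_apply]
    exact (Tau.fix_U R S y).symm
  have h2 : z ∈ Subgroup.normalizer (UN cs h X : Set Y) := by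
    rw [Subgroup.mem_normalizer_iff]
    intro y
    rw [← MulAut.conj_apply]
    exact (Tau.fix_UN R S y).symm
  rw [normalizer_U' R hG] at h1
  rw [normalizer_UN R hG] at h2
  have h3 : z ∈ T := by
    rw [← B_inf_BN R]
    exact ⟨h1, h2⟩
  exact Tau.unique R C S (tau_conj R C h3)

/-- **Every automorphism fixes `U` up to an inner automorphism.** -/
theorem exists_conj_fix [Finite W] [Finite Y] [Fact p.Prime] (hG1 : RGD.Sup X {x | IsRoot cs h x} = ⊤)
    (α : MulAut Y) : ∃ y : Y, Fix (MulAut.conj y * α) (RGD.Sup X (RGD.Pos cs h)) := by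
  have hG := GG_eq_top (T := T) hG1
  obtain ⟨P, hP⟩ := (R.isPGroup_Upos).exists_le_sylow
  have hPU : (P : Subgroup Y) = RGD.Sup X (RGD.Pos cs h) :=
    eq_U_of_isPGroup R P.isPGroup' hP (by rw [hG]; exact le_top)
  obtain ⟨y, hy⟩ := MulAction.exists_smul_eq Y (α • P) P
  refine ⟨y, ?_⟩
  rw [fix_iff, ← hPU]
  have h1 := congrArg (fun Q : Sylow p Y => (Q : Subgroup Y)) hy
  have h2 : ((y • α • P : Sylow p Y) : Subgroup Y) =
      ((P : Subgroup Y).map α.toMonoidHom).map (MulAut.conj y).toMonoidHom := rfl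
  have h3 : ((y • α • P : Sylow p Y) : Subgroup Y) = (P : Subgroup Y) := h1
  rw [h2, Subgroup.map_map] at h3
  exact h3

/-- **The homomorphism `Aut Y → Sym I × Aut F`.** -/
theorem exists_phi [Finite W] [Finite Y] [Nonempty I] [Fact p.Prime]
    (hG1 : RGD.Sup X {x | IsRoot cs h x} = ⊤) (C : Coords cs h T n X x χ) (H : Coroots A T X χ hh)
    (hconn : ∀ J : Set I, J.Nonempty → J ≠ Set.univ → ∃ a ∈ J, ∃ b, b ∉ J ∧ M a b ≠ 2)
    (hA : ∀ σ : Equiv.Perm I, (∀ i j, M (σ i) (σ j) = M i j) → ∀ i j, A (σ i) (σ j) = A i j) :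
    ∃ φ : MulAut Y →* Equiv.Perm I × (F ≃+* F), ∀ α : MulAut Y,
      (∃ y : Y, Tau T X χ A (MulAut.conj y * α) (φ α).1 (φ α).2) ∧
      ∀ (y : Y) (σ : Equiv.Perm I) (τ : F ≃+* F), Tau T X χ A (MulAut.conj y * α) σ τ → φ α = (σ, τ) := by
  have hG := GG_eq_top (T := T) hG1
  have h1 : ∀ α : MulAut Y, ∃ q : Equiv.Perm I × (F ≃+* F), ∃ y : Y, Tau T X χ A (MulAut.conj y * α) q.1 q.2 := by
    intro α
    obtain ⟨y, hy⟩ := exists_conj_fix R hG1 α
    obtain ⟨u, -, hU, hUN, -, σ, D⟩ := exists_frame_pow R hG hy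
    obtain ⟨τ, hτ⟩ := exists_tau R C H hconn D (hA σ (D.matrix R))
    refine ⟨(σ, τ), u * y, ?_⟩
    rw [map_mul, mul_assoc]
    exact hτ
  choose q hq using h1
  have huniq : ∀ (α : MulAut Y) (y y' : Y) (σ σ' : Equiv.Perm I) (τ τ' : F ≃+* F),
      Tau T X χ A (MulAut.conj y * α) σ τ → Tau T X χ A (MulAut.conj y' * α) σ' τ' → σ = σ' ∧ τ = τ' := by
    intro α y y' σ σ' τ τ' S S'
    have h2 := S.mul S'.inv
    have e : MulAut.conj y * α * (MulAut.conj y' * α)⁻¹ = MulAut.conj (y * y'⁻¹) := by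
      rw [mul_inv_rev, map_mul, map_inv]; group
    rw [e] at h2
    obtain ⟨h3, h4⟩ := Tau.inner R hG1 C h2
    exact ⟨mul_inv_eq_one.1 h3, mul_inv_eq_one.1 h4⟩
  have hkey : ∀ (α : MulAut Y) (y : Y) (σ : Equiv.Perm I) (τ : F ≃+* F),
      Tau T X χ A (MulAut.conj y * α) σ τ → q α = (σ, τ) := by
    intro α y σ τ S
    obtain ⟨y', S'⟩ := hq α
    obtain ⟨h3, h4⟩ := huniq α y' y _ _ _ _ S' S
    exact Prod.ext h3 h4
  refine ⟨MonoidHom.mk' q fun α γ => ?_, fun α => ⟨hq α, hkey α⟩⟩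
  obtain ⟨y, S⟩ := hq α
  obtain ⟨y', S'⟩ := hq γ
  have e : (MulAut.conj y * α) * (MulAut.conj y' * γ) = MulAut.conj (y * α y') * (α * γ) := by
    ext z
    simp only [MulAut.mul_apply, MulAut.conj_apply, map_mul, map_inv, mul_inv_rev, mul_assoc]
  have h2 := S.mul S'
  rw [e] at h2
  exact hkey _ _ _ _ h2

end

end Cfsg.Agent.KFacts.RgdFld.Hom
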