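import Mathlib
import Cfsg.Agent.KFacts.RgdFld.Center
import Cfsg.Agent.KFacts.RgdFixU

/-!
# Frame automorphisms which are trivial on `C_U(β)` modulo `[U, U]`

* `Cmp` : the components of an element of `U` modulo `[U, U]`;
* `Fram.sig_tau` : such an automorphism has `(σ₁, τ₁) = (1, 1)` or `(σ, τ)`.
-/

set_option autoImplicit false
set_option linter.unusedSectionVars false

namespace Cfsg.Agent.KFacts.RgdFld.SigTau

open CoxeterSystem Cfsg.Agent.ChevalleyStructure.CoxeterGeom Cfsg.Agent.Tits.Roots Cfsg.Agent.Tits.Core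
  Cfsg.Agent.Tits.Exchange Cfsg.Agent.Nodes.Reps Cfsg.Agent.Nodes.BNOf Cfsg.Agent.Nodes.StabComb
  Cfsg.Agent.Nodes.Bruhat Cfsg.Agent.Nodes.OppDec Cfsg.Agent.Nodes.PosPair Cfsg.Agent.Nodes.Coroot
  Cfsg.Agent.KFacts.RgdSL Cfsg.Agent.KFacts.RgdAut Cfsg.Agent.KFacts.RgdDiag Cfsg.Agent.KFacts.RgdFixU
  Cfsg.Agent.KFacts.RgdFld.Layer Cfsg.Agent.KFacts.RgdField Cfsg.Agent.KFacts.RgdTau Cfsg.Agent.KFacts.RgdFld.Coh
  Cfsg.Agent.KFacts.RgdFld.Center
open scoped commutatorElement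

variable {I W Y : Type*} [Fintype I] [DecidableEq I] [Group W] [Group Y] {M : CoxeterMatrix I}
  {cs : CoxeterSystem M W} {A : I → I → ℤ} {h : IsCartan M A} {p : ℕ} {T : Subgroup Y} {n : I → Y}
  {X : (I → ℤ) → Subgroup Y} {F : Type*} [Field F] {x : (I → ℤ) → F → Y} {χ : (I → ℤ) → Y → F}

/-- The component of `w` at the node `l`. -/
def Cmp (cs : CoxeterSystem M W) (h : IsCartan M A) (X : (I → ℤ) → Subgroup Y) (x : (I → ℤ) → F → Y) (l : I)
    (w : Y) (a : F) : Prop := (x (sr l) a)⁻¹ * w ∈ RGD.Sup X (RGD.PosNe cs h l)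

/-- An automorphism of a field which is trivial on the fixed field of an involution. -/
theorem eq_one_or_eq {τ τ₁ : F ≃+* F} (hτ2 : ∀ a, τ (τ a) = a) (hτ : τ ≠ 1) (h1 : ∀ a, τ a = a → τ₁ a = a) :
    τ₁ = 1 ∨ τ₁ = τ := by
  obtain ⟨θ, hθ⟩ : ∃ θ, τ θ ≠ θ := by
    by_contra hcon
    push Not at hcon
    exact hτ (RingEquiv.ext hcon)
  have h0 : θ - τ θ ≠ 0 := fun h2 => hθ (sub_eq_zero.1 h2).symm
  have hroot : (τ₁ θ - θ) * (τ₁ θ - τ θ) = 0 := by
    have h2 := h1 (θ + τ θ) (by rw [map_add, hτ2]; ring)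
    have h3 := h1 (θ * τ θ) (by rw [map_mul, hτ2]; ring)
    rw [map_add] at h2
    rw [map_mul] at h3
    have h4 : τ₁ (τ θ) = θ + τ θ - τ₁ θ := by linear_combination h2
    rw [h4] at h3
    linear_combination -h3
  -- decomposition over the fixed field
  have hdec : ∀ a, ∃ u v, τ u = u ∧ τ v = v ∧ a = u + v * θ := by
    intro a
    refine ⟨a - (a - τ a) / (θ - τ θ) * θ, (a - τ a) / (θ - τ θ), ?_, ?_, by ring⟩
    · have h2 : τ ((a - τ a) / (θ - τ θ)) = (a - τ a) / (θ - τ θ) := by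
        rw [map_div₀, map_sub, map_sub, hτ2, hτ2, ← neg_sub a, ← neg_sub θ, neg_div_neg_eq]
      rw [map_sub, map_mul, h2]
      field_simp
      ring
    · rw [map_div₀, map_sub, map_sub, hτ2, hτ2, ← neg_sub a, ← neg_sub θ, neg_div_neg_eq]
  rcases mul_eq_zero.1 hroot with h2 | h2
  · left
    ext a
    obtain ⟨u, v, hu, hv, rfl⟩ := hdec a
    rw [map_add, map_mul, h1 u hu, h1 v hv, sub_eq_zero.1 h2]
    rfl
  · right
    ext a
    obtain ⟨u, v, hu, hv, rfl⟩ := hdec a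
    rw [map_add, map_mul, h1 u hu, h1 v hv, sub_eq_zero.1 h2, map_add, map_mul, hu, hv]

section

variable (R : RGD cs h p T n X) [Finite W] (C : Coords cs h T n X x χ)

include R C

theorem x_mem (i : I) (a : F) : x (sr i) a ∈ X (sr i) := ((C.coord _ (isRoot_sr cs h i)).mem _).2 ⟨a, rfl⟩

theorem x_mem_U (i : I) (a : F) : x (sr i) a ∈ RGD.Sup X (RGD.Pos cs h) :=
  RGD.le_Sup (sr_mem_pos i) (x_mem R C i a)

theorem x_mem_ne {i l : I} (hil : i ≠ l) (a : F) : x (sr i) a ∈ RGD.Sup X (RGD.PosNe cs h l) := by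
  refine RGD.le_Sup (S := RGD.PosNe cs h l) ⟨isRoot_sr cs h i, sr_nonneg i, fun h1 => ?_⟩ (x_mem R C i a)
  have h2 := congrFun h1 i
  rw [sr_self, sr_ne hil] at h2
  exact one_ne_zero h2

theorem lay_two_le (l : I) : RGD.Sup X (Lay cs h 2) ≤ RGD.Sup X (RGD.PosNe cs h l) := by
  refine RGD.Sup_mono fun z hz => ⟨hz.1, (lay_sub (by norm_num) hz).2, ?_⟩
  rintro rfl
  have h1 := hz.2
  rw [ht_sr] at h1
  omega

theorem Cmp.unique {l : I} {w : Y} {a b : F} (h1 : Cmp cs h X x l w a) (h2 : Cmp cs h X x l w b) : a = b := by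
  have hx := C.coord _ (isRoot_sr cs h l)
  have h3 : x (sr l) (a - b) ∈ RGD.Sup X (RGD.PosNe cs h l) := by
    have e : x (sr l) (a - b) = (x (sr l) a * (x (sr l) b)⁻¹) := by
      rw [eq_mul_inv_iff_mul_eq, ← hx.add, sub_add_cancel]
    have hU : x (sr l) a ∈ Subgroup.normalizer (RGD.Sup X (RGD.PosNe cs h l) : Set Y) :=
      U_le_normalizer_V R l (x_mem_U R C l a)
    have h4 : (x (sr l) a)⁻¹ * w * ((x (sr l) b)⁻¹ * w)⁻¹ ∈ RGD.Sup X (RGD.PosNe cs h l) := mul_mem h1 (inv_mem h2)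
    have h5 := (Subgroup.mem_normalizer_iff.1 hU _).1 h4
    have e2 : x (sr l) a * ((x (sr l) a)⁻¹ * w * ((x (sr l) b)⁻¹ * w)⁻¹) * (x (sr l) a)⁻¹ =
        x (sr l) b * (x (sr l) a)⁻¹ := by group
    rw [e2] at h5
    have h6 := inv_mem h5
    rw [mul_inv_rev, inv_inv] at h6
    rwa [e]
  have h4 := eq_one_of_mem_PosNe R (x_mem R C l _) h3
  by_contra hab
  exact hx.ne_one (sub_ne_zero.2 hab) h4

theorem Cmp.mul {l : I} {w w' : Y} {a a' : F} (h1 : Cmp cs h X x l w a) (h2 : Cmp cs h X x l w' a') :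
    Cmp cs h X x l (w * w') (a + a') := by
  have hx := C.coord _ (isRoot_sr cs h l)
  have hU : x (sr l) a' ∈ Subgroup.normalizer (RGD.Sup X (RGD.PosNe cs h l) : Set Y) :=
    U_le_normalizer_V R l (x_mem_U R C l a')
  have h3 := (Subgroup.mem_normalizer_iff.1 (inv_mem hU) _).1 h1
  have h4 := mul_mem h3 h2
  unfold Cmp
  have e : (x (sr l) (a + a'))⁻¹ * (w * w') =
      (x (sr l) a')⁻¹ * ((x (sr l) a)⁻¹ * w) * ((x (sr l) a')⁻¹)⁻¹ * ((x (sr l) a')⁻¹ * w') := by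
    rw [hx.add]; group
  rw [e]
  exact h4

theorem cmp_self (l : I) (a : F) : Cmp cs h X x l (x (sr l) a) a := by
  unfold Cmp
  rw [inv_mul_cancel]
  exact one_mem _

theorem cmp_of_mem {l : I} {w : Y} (hw : w ∈ RGD.Sup X (RGD.PosNe cs h l)) : Cmp cs h X x l w 0 := by
  unfold Cmp
  rw [(C.coord _ (isRoot_sr cs h l)).zero, inv_one, one_mul]
  exact hw

theorem map_lay {γ : MulAut Y} {σ₁ : Equiv.Perm I} {τ₁ : F ≃+* F} (S₁ : Tau T X χ A γ σ₁ τ₁) {k : ℤ} {s : Y}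
    (hs : s ∈ RGD.Sup X (Lay cs h k)) : γ s ∈ RGD.Sup X (Lay cs h k) := by
  have h1 : RGD.Sup X (Lay cs h k) ≤ (RGD.Sup X (Lay cs h k)).comap γ.toMonoidHom := by
    refine RGD.Sup_le fun r hr y hy => ?_
    refine RGD.le_Sup (S := Lay cs h k) ⟨isRoot_comp (S₁.diag.matrix R) S₁.cartan hr.1, ?_⟩
      ((Diag.root_comp R S₁.diag S₁.cartan hr.1 y).2 hy)
    rw [ht_comp]
    exact hr.2
  exact h1 hs

end

section

variable {β : MulAut Y} {σ : Equiv.Perm I} {τ : F ≃+* F} (H : Fram T X χ A β σ τ)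

include H

theorem Fram.sig_tau [CharP F 2] (R : RGD cs h p T n X) [Finite W] [Nonempty I] (C : Coords cs h T n X x χ)
    (hs : SL cs h) {γ : MulAut Y} {σ₁ : Equiv.Perm I} {τ₁ : F ≃+* F} (S₁ : Tau T X χ A γ σ₁ τ₁)
    (hγ : ∀ w ∈ RGD.Sup X (RGD.Pos cs h), β w = w → γ w * w⁻¹ ∈ RGD.Sup X (Lay cs h 2)) :
    (σ₁ = 1 ∧ τ₁ = 1) ∨ (σ₁ = σ ∧ τ₁ = τ) := by
  have hcmp : ∀ {l w a}, w ∈ RGD.Sup X (RGD.Pos cs h) → β w = w → Cmp cs h X x l w a → Cmp cs h X x l (γ w) a := by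
    intro l w a hw hβw h1
    have h2 := (cmp_of_mem R C (lay_two_le R C l (hγ w hw hβw))).mul R C h1
    rwa [inv_mul_cancel_right, zero_add] at h2
  -- the nodes fixed by `σ`
  have hfix : ∀ i, σ i = i → σ₁ i = i ∧ ∀ f, τ f = f → τ₁ f = f := by
    intro i hi
    obtain ⟨c, -, hcx⟩ := Tau.root R C H.tau (isRoot_sr cs h i)
    have hrσ : (sr i : I → ℤ) ∘ σ.symm = sr i := by rw [sr_comp, hi]
    have hcc := H.twice R C (isRoot_sr cs h i) hrσ hcx
    rw [sr_comp, hi] at hcx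
    obtain ⟨θ, hθ⟩ := exists_trace H.ne (c := c)
    obtain ⟨m, hm⟩ : ∃ m, m = θ + c * τ θ := ⟨_, rfl⟩
    rw [← hm] at hθ
    have hm2 : c * τ m = m := by
      rw [hm, map_add, mul_add, hcc]; ring
    obtain ⟨c₁, hc₁, hcx₁⟩ := Tau.root R C S₁ (isRoot_sr cs h i)
    rw [sr_comp] at hcx₁
    have hw : ∀ f, τ f = f → β (x (sr i) (f * m)) = x (sr i) (f * m) := by
      intro f hf
      rw [hcx, map_mul, hf]
      congr 1
      rw [← mul_assoc, mul_comm c f, mul_assoc, hm2]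
    have h1 : σ₁ i = i := by
      by_contra hne
      have h2 := hcmp (x_mem_U R C i _) (hw 1 (map_one τ)) (cmp_self R C i _)
      rw [hcx₁] at h2
      have h3 := cmp_of_mem R C (x_mem_ne R C hne (c₁ * τ₁ (1 * m)))
      have h4 := h2.unique R C h3
      rw [one_mul] at h4
      exact hθ h4
    refine ⟨h1, fun f hf => ?_⟩
    rw [h1] at hcx₁
    have key : ∀ f, τ f = f → c₁ * τ₁ (f * m) = f * m := by
      intro f hf
      have h2 := hcmp (x_mem_U R C i _) (hw f hf) (cmp_self R C i _)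
      rw [hcx₁] at h2
      exact (cmp_self R C i _).unique R C h2
    have h2 := key 1 (map_one τ)
    rw [one_mul] at h2
    have h3 := key f hf
    rw [map_mul, ← mul_assoc, mul_comm c₁, mul_assoc, h2] at h3
    exact mul_right_cancel₀ hθ h3
  -- the other nodes
  have hmov : ∀ i, σ i ≠ i → (σ₁ i = i ∧ τ₁ = 1) ∨ (σ₁ i = σ i ∧ τ₁ = τ) := by
    intro i hi
    obtain ⟨c, hc0, hcx⟩ := Tau.root R C H.tau (isRoot_sr cs h i)
    rw [sr_comp] at hcx
    obtain ⟨c₁, hc₁, hcx₁⟩ := Tau.root R C S₁ (isRoot_sr cs h i)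
    rw [sr_comp] at hcx₁
    obtain ⟨c₂, hc₂, hcx₂⟩ := Tau.root R C S₁ (isRoot_sr cs h (σ i))
    rw [sr_comp] at hcx₂
    have hne : σ₁ (σ i) ≠ σ₁ i := fun h1 => hi (σ₁.injective h1)
    have key : ∀ μ, ∀ a, (∀ s ∈ RGD.Sup X (Lay cs h 2),
        Cmp cs h X x (σ₁ i) (x (sr i) μ * x (sr (σ i)) (c * τ μ) * s) a) → c₁ * τ₁ μ = a := by
      intro μ a ha
      obtain ⟨s, hsm, hsf⟩ := H.exists_fix R C hs hcx μ
      have hwU : x (sr i) μ * x (sr (σ i)) (c * τ μ) * s ∈ RGD.Sup X (RGD.Pos cs h) :=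
        mul_mem (mul_mem (x_mem_U R C _ _) (x_mem_U R C _ _)) (RGD.Sup_mono (lay_sub (by norm_num)) hsm)
      have h1 := hcmp hwU hsf (ha s hsm)
      rw [map_mul, map_mul, hcx₁, hcx₂] at h1
      have h2 := ((cmp_self R C (σ₁ i) (c₁ * τ₁ μ)).mul R C (cmp_of_mem R C (x_mem_ne R C hne (c₂ * τ₁ (c * τ μ))))).mul
        R C (cmp_of_mem R C (lay_two_le R C (σ₁ i) (map_lay R C S₁ hsm)))
      rw [add_zero, add_zero] at h2
      exact h2.unique R C h1
    have hs0 : ∀ l s, s ∈ RGD.Sup X (Lay cs h 2) → Cmp cs h X x l s 0 := fun l s hsm =>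
      cmp_of_mem R C (lay_two_le R C l hsm)
    by_cases h1 : σ₁ i = i
    · left
      refine ⟨h1, ?_⟩
      have h2 : ∀ μ, c₁ * τ₁ μ = μ := by
        intro μ
        refine key μ μ fun s hsm => ?_
        rw [h1]
        have h3 := ((cmp_self R C i μ).mul R C (cmp_of_mem R C (x_mem_ne R C hi (c * τ μ)))).mul R C (hs0 i s hsm)
        rwa [add_zero, add_zero] at h3
      have h3 : c₁ = 1 := by
        have := h2 1
        rwa [map_one, mul_one] at this
      ext μ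
      have := h2 μ
      rw [h3, one_mul] at this
      rw [this]
      rfl
    by_cases h2 : σ₁ i = σ i
    · right
      refine ⟨h2, ?_⟩
      have h3 : ∀ μ, c₁ * τ₁ μ = c * τ μ := by
        intro μ
        refine key μ _ fun s hsm => ?_
        rw [h2]
        have h3 := ((cmp_of_mem R C (x_mem_ne R C (Ne.symm hi) μ)).mul R C (cmp_self R C (σ i) (c * τ μ))).mul R C
          (hs0 _ s hsm)
        rwa [zero_add, add_zero] at h3
      have h4 : c₁ = c := by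
        have := h3 1
        rwa [map_one, map_one, mul_one, mul_one] at this
      ext μ
      have := h3 μ
      rw [h4] at this
      exact mul_left_cancel₀ hc0 this
    · exfalso
      have h3 : c₁ * τ₁ 1 = 0 := by
        refine key 1 0 fun s hsm => ?_
        have h3 := ((cmp_of_mem R C (x_mem_ne R C (Ne.symm h1) 1)).mul R C
          (cmp_of_mem R C (x_mem_ne R C (Ne.symm h2) (c * τ 1)))).mul R C (hs0 _ s hsm)
        rwa [add_zero, add_zero] at h3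
      rw [map_one, mul_one] at h3
      exact hc₁ h3
  by_cases hσ : ∀ i, σ i = i
  · have hσ1 : σ = 1 := Equiv.ext hσ
    obtain ⟨i₀⟩ := ‹Nonempty I›
    have h1 : σ₁ = 1 := Equiv.ext fun i => (hfix i (hσ i)).1
    have hτ2 : ∀ a, τ (τ a) = a := by
      have h2 := H.tau.mul H.tau
      have h3 : β * β = 1 := MulEquiv.ext fun y => H.sq y
      rw [h3] at h2
      have h4 := (Tau.unique R C h2 Tau.one).2
      intro a
      exact congrArg (fun g : F ≃+* F => g a) h4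
    rcases eq_one_or_eq hτ2 H.ne (hfix i₀ (hσ i₀)).2 with h2 | h2
    · exact Or.inl ⟨h1, h2⟩
    · exact Or.inr ⟨h1.trans hσ1.symm, h2⟩
  · push Not at hσ
    obtain ⟨i₀, hi₀⟩ := hσ
    rcases hmov i₀ hi₀ with ⟨-, h1⟩ | ⟨-, h1⟩
    · left
      refine ⟨Equiv.ext fun i => ?_, h1⟩
      by_cases hi : σ i = i
      · exact (hfix i hi).1
      · rcases hmov i hi with ⟨h2, -⟩ | ⟨-, h2⟩
        · exact h2
        · exact absurd (h2.symm.trans h1) H.ne
    · right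
      refine ⟨Equiv.ext fun i => ?_, h1⟩
      by_cases hi : σ i = i
      · rw [(hfix i hi).1, hi]
      · rcases hmov i hi with ⟨-, h2⟩ | ⟨h2, -⟩
        · exact absurd (h1.symm.trans h2) H.ne
        · exact h2

end

end Cfsg.Agent.KFacts.RgdFld.SigTau
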