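import Mathlib
import Cfsg.Agent.KFacts.RgdFld.SigTau
import Cfsg.Agent.KFacts.RgdFld.Dom
import Cfsg.Agent.KFacts.RgdFld.Hom

/-!
# Involutory automorphisms with a nontrivial field part

`S₀` a `2`-group of automorphisms fixing `U`, containing the inner automorphisms of `U`.

* `Fram.exists_conj` : an involution `a` with frame part `β` is `U`-conjugate to `β`;
* `Sit.cent` : an element of `S₀` commuting with `a` and centralising `C_U(a)` lies in `X ρ ⟨a⟩`;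
* `Fram.conj` : `z ∈ X ρ` fixed by `a` is a commutator `[a, k]`;
* `Fram.der'` : `C_{X ρ}(a) ≤ [C_U(a), C_U(a)]`.
-/

set_option autoImplicit false
set_option linter.unusedSectionVars false

namespace Cfsg.Agent.KFacts.RgdFld.AutP

open CoxeterSystem Cfsg.Agent.ChevalleyStructure.CoxeterGeom Cfsg.Agent.Tits.Roots Cfsg.Agent.Tits.Core
  Cfsg.Agent.Tits.Exchange Cfsg.Agent.Nodes.Reps Cfsg.Agent.Nodes.BNOf Cfsg.Agent.Nodes.StabComb
  Cfsg.Agent.Nodes.Bruhat Cfsg.Agent.Nodes.OppDec Cfsg.Agent.Nodes.PosPair Cfsg.Agent.Nodes.Coroot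
  Cfsg.Agent.KFacts.RgdSL Cfsg.Agent.KFacts.RgdAut Cfsg.Agent.KFacts.RgdDiag Cfsg.Agent.KFacts.RgdRigid
  Cfsg.Agent.KFacts.RgdFld.Layer Cfsg.Agent.KFacts.RgdField Cfsg.Agent.KFacts.RgdTau Cfsg.Agent.KFacts.RgdFld.Coh
  Cfsg.Agent.KFacts.RgdFld.Center Cfsg.Agent.KFacts.RgdFld.SigTau Cfsg.Agent.KFacts.RgdFld.Der
  Cfsg.Agent.KFacts.RgdFld.Hom
open scoped commutatorElement

variable {I W Y : Type*} [Fintype I] [DecidableEq I] [Group W] [Group Y] {M : CoxeterMatrix I}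
  {cs : CoxeterSystem M W} {A : I → I → ℤ} {h : IsCartan M A} {T : Subgroup Y} {n : I → Y}
  {X : (I → ℤ) → Subgroup Y} {F : Type*} [Field F] {x : (I → ℤ) → F → Y} {χ : (I → ℤ) → Y → F}

theorem mul_conj (α : MulAut Y) (u : Y) : α * MulAut.conj u = MulAut.conj (α u) * α := by
  ext y
  simp only [MulAut.mul_apply, MulAut.conj_apply, map_mul, map_inv]

section

variable (R : RGD cs h 2 T n X)

include R

/-- inner automorphisms of `U` -/
theorem conj_inj [Finite W] (hG1 : RGD.Sup X {x | IsRoot cs h x} = ⊤) {u u' : Y}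
    (hu : u ∈ RGD.Sup X (RGD.Pos cs h)) (hu' : u' ∈ RGD.Sup X (RGD.Pos cs h))
    (he : MulAut.conj u = MulAut.conj u') : u = u' := by
  have hG := GG_eq_top (T := T) hG1
  refine frame_unique R hG (α := (MulAut.conj u)⁻¹) hu hu' ?_ ?_
  · rw [mul_inv_cancel]; exact fun _ => Iff.rfl
  · rw [← he, mul_inv_cancel]; exact fun _ => Iff.rfl

variable {β : MulAut Y} {σ : Equiv.Perm I} {τ : F ≃+* F}

theorem coh_U [CharP F 2] [Finite W] [Nonempty I] (C : Coords cs h T n X x χ) (hs : SL cs h)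
    (H : Fram T X χ A β σ τ) : Coh β (RGD.Sup X (RGD.Pos cs h)) := by
  have := H.coh_lay R C hs (k := 1) one_pos
  rwa [lay_one] at this

/-- **An involution with frame part `β` is `U`-conjugate to `β`.** -/
theorem exists_conj [CharP F 2] [Finite W] [Nonempty I] (hG1 : RGD.Sup X {x | IsRoot cs h x} = ⊤)
    (C : Coords cs h T n X x χ) (hs : SL cs h) (H : Fram T X χ A β σ τ) {a : MulAut Y} (ha : a * a = 1) {u : Y}
    (hu : u ∈ RGD.Sup X (RGD.Pos cs h)) (hβ : β = MulAut.conj u * a) :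
    ∃ s ∈ RGD.Sup X (RGD.Pos cs h), a = MulAut.conj s⁻¹ * β * MulAut.conj s := by
  have hβ2 : β * β = 1 := MulEquiv.ext fun y => H.sq y
  have hfix := Tau.fix_U R H.tau
  have e1 : a = MulAut.conj u⁻¹ * β := by rw [hβ, map_inv, inv_mul_cancel_left]
  have e2 : a * a = MulAut.conj (u⁻¹ * β u⁻¹) := by
    rw [e1, mul_assoc, ← mul_assoc β, mul_conj, mul_assoc _ β β, hβ2, mul_one, ← map_mul]
  have h1 : u⁻¹ * β u⁻¹ = 1 := by
    apply conj_inj R hG1 (mul_mem (inv_mem hu) ((hfix _).2 (inv_mem hu))) (one_mem _)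
    rw [← e2, ha, map_one]
  obtain ⟨s, hsU, hse⟩ := coh_U R C hs H _ (inv_mem hu) h1
  refine ⟨s, hsU, ?_⟩
  have h2 : u⁻¹ = s⁻¹ * β s := by
    have e3 : s⁻¹ * (s * u⁻¹ * (β s)⁻¹) * β s = u⁻¹ := by group
    rw [← e3, hse, mul_one]
  rw [mul_assoc, mul_conj, ← mul_assoc, ← map_mul, ← h2, e1]

/-- **Elements of `X ρ` fixed by the involution are commutators.** -/
theorem exists_comm [CharP F 2] [Finite W] [Nonempty I] (C : Coords cs h T n X x χ) (hs : SL cs h)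
    (H : Fram T X χ A β σ τ) {ρ : I → ℤ} (hρ : Highest cs h ρ) {a : MulAut Y} {s : Y}
    (hsU : s ∈ RGD.Sup X (RGD.Pos cs h)) (ha : a = MulAut.conj s⁻¹ * β * MulAut.conj s) {z : Y} (hz : z ∈ X ρ)
    (haz : a z = z) : ∃ k ∈ X ρ, a k * k⁻¹ = z := by
  have hab := ab_of_coords C.coord
  have hcen : ∀ {w u : Y}, w ∈ X ρ → u ∈ RGD.Sup X (RGD.Pos cs h) → w * u = u * w :=
    fun hw hu => central R hs hab hρ hw hu
  have hρσ := Fram.rho_comp H R hρ
  have hfix : ∀ w, β w ∈ X ρ ↔ w ∈ X ρ := by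
    intro w
    have := Diag.root_comp R H.tau.diag H.tau.cartan hρ.pos.1 w
    rwa [hρσ] at this
  have haβ : ∀ w ∈ X ρ, a w = β w := by
    intro w hw
    rw [ha, MulAut.mul_apply, MulAut.mul_apply, MulAut.conj_apply, MulAut.conj_apply, ← hcen hw hsU,
      mul_inv_cancel_right, inv_inv, ← hcen ((hfix w).2 hw) (inv_mem hsU), inv_mul_cancel_right]
  obtain ⟨c, hc, hcx⟩ := Tau.root R C H.tau hρ.pos.1
  rw [hρσ] at hcx
  have hcoh := coh_coord (C.coord ρ hρ.pos.1) H.sq H.ne hcx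
  obtain ⟨l, rfl⟩ := ((C.coord ρ hρ.pos.1).mem z).1 hz
  have h2 : x ρ l * x ρ l = 1 := by
    rw [← (C.coord ρ hρ.pos.1).add, CharTwo.add_self_eq_zero, (C.coord ρ hρ.pos.1).zero]
  have h3 : β (x ρ l) = x ρ l := by rw [← haβ _ hz, haz]
  obtain ⟨k, hk, hke⟩ := hcoh _ hz (by rw [h3, h2])
  refine ⟨k, hk, ?_⟩
  rw [haβ k hk, ← hab _ hρ.pos.1 _ (inv_mem hk) _ ((hfix k).2 hk)]
  have e : k⁻¹ * (k * x ρ l * (β k)⁻¹) * β k = x ρ l := by group
  rw [← e, hke, mul_one]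

/-- **`C_{X ρ}(a) ≤ [C_U(a), C_U(a)]`** -/
theorem der' [CharP F 2] [Finite W] [Nonempty I] (C : Coords cs h T n X x χ) (hs : SL cs h)
    (hN : Str cs h x) (H : Fram T X χ A β σ τ) {ρ : I → ℤ} (hρ : Highest cs h ρ) {i : I}
    (hi : cpr cs h ρ (sr i) = 1) {a : MulAut Y} {s : Y}
    (hsU : s ∈ RGD.Sup X (RGD.Pos cs h)) (ha : a = MulAut.conj s⁻¹ * β * MulAut.conj s) {z : Y} (hz : z ∈ X ρ)
    (haz : a z = z) : z ∈ ⁅CU cs h X a, CU cs h X a⁆ := by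
  have hab := ab_of_coords C.coord
  have hcen : ∀ {w u : Y}, w ∈ X ρ → u ∈ RGD.Sup X (RGD.Pos cs h) → w * u = u * w :=
    fun hw hu => central R hs hab hρ hw hu
  have hρσ := Fram.rho_comp H R hρ
  have hfix : ∀ w, β w ∈ X ρ ↔ w ∈ X ρ := by
    intro w
    have := Diag.root_comp R H.tau.diag H.tau.cartan hρ.pos.1 w
    rwa [hρσ] at this
  have haβ : a z = β z := by
    rw [ha, MulAut.mul_apply, MulAut.mul_apply, MulAut.conj_apply, MulAut.conj_apply, ← hcen hz hsU,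
      mul_inv_cancel_right, inv_inv, ← hcen ((hfix z).2 hz) (inv_mem hsU), inv_mul_cancel_right]
  have h1 := Dom.der_all H R C hs hN hρ hi hz (by rw [← haβ, haz])
  have h2 : (CU cs h X β).map (MulAut.conj s⁻¹).toMonoidHom ≤ CU cs h X a := by
    rintro _ ⟨w, ⟨hw, hβw⟩, rfl⟩
    show MulAut.conj s⁻¹ w ∈ CU cs h X a
    rw [mem_CU, MulAut.conj_apply, inv_inv]
    refine ⟨mul_mem (mul_mem (inv_mem hsU) hw) hsU, ?_⟩
    rw [ha, MulAut.mul_apply, MulAut.mul_apply, MulAut.conj_apply, MulAut.conj_apply, inv_inv]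
    have e : s * (s⁻¹ * w * s) * s⁻¹ = w := by group
    rw [e, hβw]
  have h3 : MulAut.conj s⁻¹ z ∈ (⁅CU cs h X β, CU cs h X β⁆).map (MulAut.conj s⁻¹).toMonoidHom := ⟨z, h1, rfl⟩
  rw [Subgroup.map_commutator] at h3
  have h4 : MulAut.conj s⁻¹ z = z := by
    rw [MulAut.conj_apply, inv_inv, ← hcen hz (inv_mem hsU), inv_mul_cancel_right]
  rw [h4] at h3
  exact Subgroup.commutator_mono h2 h2 h3

end

/-- `S₀` : a `2`-group of automorphisms fixing `U`, containing the inner automorphisms of `U`; `f` the frame part, `g`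
the symmetry. -/
structure Sit (cs : CoxeterSystem M W) (h : IsCartan M A) (T : Subgroup Y) (X : (I → ℤ) → Subgroup Y)
    (χ : (I → ℤ) → Y → F) (A' : I → I → ℤ) (S₀ : Subgroup (MulAut Y)) (f : ↥S₀ →* MulAut Y)
    (g : ↥S₀ →* Equiv.Perm I × (F ≃+* F)) : Prop where
  pg : IsPGroup 2 ↥S₀
  inn : ∀ u ∈ RGD.Sup X (RGD.Pos cs h), MulAut.conj u ∈ S₀
  fr : ∀ α : ↥S₀, ∃ u ∈ RGD.Sup X (RGD.Pos cs h), f α = MulAut.conj u * α
  ord : ∀ (α : ↥S₀) (k : ℕ), α ^ k = 1 → (f α) ^ k = 1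
  ker : ∀ α : ↥S₀, f α = 1 ↔ ∃ u ∈ RGD.Sup X (RGD.Pos cs h), (α : MulAut Y) = MulAut.conj u
  tau : ∀ α : ↥S₀, Tau T X χ A' (f α) (g α).1 (g α).2

/-- Existence. -/
theorem exists_sit [Finite W] [Nonempty I] (R : RGD cs h 2 T n X) (hG1 : RGD.Sup X {x | IsRoot cs h x} = ⊤)
    (C : Coords cs h T n X x χ) {S₀ : Subgroup (MulAut Y)} (hp : IsPGroup 2 ↥S₀)
    (hfix : ∀ α ∈ S₀, Fix α (RGD.Sup X (RGD.Pos cs h))) (hinn : ∀ u ∈ RGD.Sup X (RGD.Pos cs h), MulAut.conj u ∈ S₀)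
    (g : ↥S₀ →* Equiv.Perm I × (F ≃+* F)) (hg : ∀ α : ↥S₀, ∃ u ∈ RGD.Sup X (RGD.Pos cs h),
      Tau T X χ A (MulAut.conj u * α) (g α).1 (g α).2) :
    ∃ f : ↥S₀ →* MulAut Y, Sit cs h T X χ A S₀ f g := by
  have hG := GG_eq_top (T := T) hG1
  obtain ⟨f, hf⟩ := exists_toFrame R hG S₀ hfix
  refine ⟨f, hp, hinn, fun α => (hf α).2.1, fun α k hk => (hf α).2.2.1 k hk, fun α => (hf α).2.2.2.1, fun α => ?_⟩
  obtain ⟨u, hu, hτ⟩ := hg α
  obtain ⟨u', hu', e⟩ := (hf α).2.1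
  have h1 : u' = u := frame_unique R hG (α := (α : MulAut Y)) hu' hu (by rw [← e]; exact (hf α).1.2)
    (Tau.fix_UN R hτ)
  rw [e, h1]
  exact hτ

section

variable {S₀ : Subgroup (MulAut Y)} {f : ↥S₀ →* MulAut Y} {g : ↥S₀ →* Equiv.Perm I × (F ≃+* F)}

theorem Sit.g_conj (S : Sit cs h T X χ A S₀ f g) (R : RGD cs h 2 T n X) [Finite W] [Nonempty I]
    (C : Coords cs h T n X x χ) {α : ↥S₀} {u : Y} (hu : u ∈ RGD.Sup X (RGD.Pos cs h))
    (he : (α : MulAut Y) = MulAut.conj u) : g α = 1 := by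
  have h1 := S.tau α
  rw [(S.ker α).2 ⟨u, hu, he⟩] at h1
  obtain ⟨h2, h3⟩ := Tau.unique R C h1 Tau.one
  exact Prod.ext h2 h3

theorem Sit.pow (S : Sit cs h T X χ A S₀ f g) (α : ↥S₀) : ∃ k : ℕ, (f α) ^ 2 ^ k = 1 := by
  obtain ⟨k, hk⟩ := S.pg α
  exact ⟨k, S.ord α _ hk⟩

/-- an element of `S₀` with trivial symmetry is inner -/
theorem Sit.inner (S : Sit cs h T X χ A S₀ f g) (R : RGD cs h 2 T n X) [Finite W] [Nonempty I] [CharP F 2]
    (hG1 : RGD.Sup X {x | IsRoot cs h x} = ⊤) (C : Coords cs h T n X x χ) {α : ↥S₀} (he : g α = 1) :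
    ∃ u ∈ RGD.Sup X (RGD.Pos cs h), (α : MulAut Y) = MulAut.conj u := by
  have : Fact (Nat.Prime 2) := ⟨Nat.prime_two⟩
  rw [← S.ker]
  have h1 := S.tau α
  rw [he] at h1
  obtain ⟨k, hk⟩ := S.pow α
  exact Tau.eq_one R hG1 C h1 hk

/-- The first case of `Sit.cent`. -/
theorem Sit.cent_one (S : Sit cs h T X χ A S₀ f g) (R : RGD cs h 2 T n X) [Finite W] [Nonempty I] [CharP F 2]
    (hG1 : RGD.Sup X {x | IsRoot cs h x} = ⊤) (C : Coords cs h T n X x χ) (hs : SL cs h) (hN : Str cs h x)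
    {ρ : I → ℤ} (hρ : Highest cs h ρ) {a : ↥S₀} (hne : (g a).2 ≠ 1) (ha : a * a = 1) {δ : ↥S₀}
    (hcomm : δ * a = a * δ)
    (hcent : ∀ w ∈ RGD.Sup X (RGD.Pos cs h), (a : MulAut Y) w = w → (δ : MulAut Y) w = w) (hδ : g δ = 1) :
    ∃ z ∈ X ρ, (a : MulAut Y) z = z ∧ (δ : MulAut Y) = MulAut.conj z := by
  have hH : Fram T X χ A (f a) (g a).1 (g a).2 := by
    refine ⟨S.tau a, fun y => ?_, hne⟩
    have h1 : f a * f a = 1 := by rw [← map_mul, ha, map_one]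
    exact congrArg (fun b : MulAut Y => b y) h1
  obtain ⟨u, hu, hue⟩ := S.fr a
  have ha' : (a : MulAut Y) * a = 1 := congrArg Subtype.val ha
  obtain ⟨s, hsU, hse⟩ := exists_conj R hG1 C hs hH ha' hu hue
  obtain ⟨z, hz, hze⟩ := S.inner R hG1 C hδ
  have hfixa : ∀ w, (a : MulAut Y) w ∈ RGD.Sup X (RGD.Pos cs h) ↔ w ∈ RGD.Sup X (RGD.Pos cs h) := by
    have h1 : Fix (MulAut.conj s⁻¹ * f a * MulAut.conj s) (RGD.Sup X (RGD.Pos cs h)) := by
      have h2 : ∀ r ∈ RGD.Sup X (RGD.Pos cs h), Fix (MulAut.conj r) (RGD.Sup X (RGD.Pos cs h)) := by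
        intro r hr w
        rw [MulAut.conj_apply]
        exact (Subgroup.mem_normalizer_iff.1 (Subgroup.le_normalizer hr) w).symm
      exact ((h2 _ (inv_mem hsU)).mul (Tau.fix_U R (S.tau a))).mul (h2 _ hsU)
    rw [← hse] at h1
    exact h1
  -- `z` is fixed by `a`
  have hz1 : (a : MulAut Y) z = z := by
    apply conj_inj R hG1 ((hfixa z).2 hz) hz
    have h1 : (δ : MulAut Y) * a = a * δ := congrArg Subtype.val hcomm
    rw [hze, mul_conj] at h1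
    exact (mul_right_cancel h1).symm
  -- `s z s⁻¹` commutes with the fixed points of `β`
  have hc : ∀ w ∈ RGD.Sup X (RGD.Pos cs h), f a w = w → w * (s * z * s⁻¹) = s * z * s⁻¹ * w := by
    intro w hw hβw
    have h1 : (a : MulAut Y) (s⁻¹ * w * s) = s⁻¹ * w * s := by
      rw [hse, MulAut.mul_apply, MulAut.mul_apply, MulAut.conj_apply, MulAut.conj_apply, inv_inv]
      have e : s * (s⁻¹ * w * s) * s⁻¹ = w := by group
      rw [e, hβw]
    have h2 := hcent _ (mul_mem (mul_mem (inv_mem hsU) hw) hsU) h1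
    rw [hze, MulAut.conj_apply, mul_inv_eq_iff_eq_mul] at h2
    calc w * (s * z * s⁻¹) = s * (s⁻¹ * w * s * z) * s⁻¹ := by group
      _ = s * (z * (s⁻¹ * w * s)) * s⁻¹ := by rw [h2]
      _ = s * z * s⁻¹ * w := by group
  have h2 := hH.center R C hs hN hρ (mul_mem (mul_mem hsU hz) (inv_mem hsU)) hc
  have h3 := central R hs (ab_of_coords C.coord) hρ h2 hsU
  have h4 : z = s * z * s⁻¹ := by
    have e : s * z * s⁻¹ * s = s * z := by group
    rw [e] at h3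
    exact mul_left_cancel h3
  exact ⟨z, by rw [h4]; exact h2, hz1, hze⟩

/-- **An element of `S₀` commuting with `a` and centralising `C_U(a)` lies in `X ρ ⟨a⟩`.** -/
theorem Sit.cent (S : Sit cs h T X χ A S₀ f g) (R : RGD cs h 2 T n X) [Finite W] [Nonempty I] [CharP F 2]
    (hG1 : RGD.Sup X {x | IsRoot cs h x} = ⊤) (C : Coords cs h T n X x χ) (hs : SL cs h) (hN : Str cs h x)
    {ρ : I → ℤ} (hρ : Highest cs h ρ) {a : ↥S₀} (hne : (g a).2 ≠ 1) (ha : a * a = 1) {δ : ↥S₀}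
    (hcomm : δ * a = a * δ)
    (hcent : ∀ w ∈ RGD.Sup X (RGD.Pos cs h), (a : MulAut Y) w = w → (δ : MulAut Y) w = w) :
    ∃ z ∈ X ρ, (a : MulAut Y) z = z ∧
      ((δ : MulAut Y) = MulAut.conj z ∨ (δ : MulAut Y) = (a : MulAut Y) * MulAut.conj z) := by
  have hH : Fram T X χ A (f a) (g a).1 (g a).2 := by
    refine ⟨S.tau a, fun y => ?_, hne⟩
    have h1 : f a * f a = 1 := by rw [← map_mul, ha, map_one]
    exact congrArg (fun b : MulAut Y => b y) h1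
  obtain ⟨u, hu, hue⟩ := S.fr a
  have ha' : (a : MulAut Y) * a = 1 := congrArg Subtype.val ha
  obtain ⟨s, hsU, hse⟩ := exists_conj R hG1 C hs hH ha' hu hue
  -- conjugate by `s`
  obtain ⟨c, hc⟩ : ∃ c : ↥S₀, (c : MulAut Y) = MulAut.conj s := ⟨⟨_, S.inn s hsU⟩, rfl⟩
  have hgc : g c = 1 := S.g_conj R C hsU hc
  have hgγ : g (c * δ * c⁻¹) = g δ := by rw [map_mul, map_mul, map_inv, hgc, one_mul, inv_one, mul_one]
  obtain ⟨u₁, hu₁, hue₁⟩ := S.fr (c * δ * c⁻¹)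
  have hγ : ∀ w ∈ RGD.Sup X (RGD.Pos cs h), f a w = w →
      f (c * δ * c⁻¹) w * w⁻¹ ∈ RGD.Sup X (Lay cs h 2) := by
    intro w hw hβw
    have h1 : (a : MulAut Y) (s⁻¹ * w * s) = s⁻¹ * w * s := by
      rw [hse, MulAut.mul_apply, MulAut.mul_apply, MulAut.conj_apply, MulAut.conj_apply, inv_inv]
      have e : s * (s⁻¹ * w * s) * s⁻¹ = w := by group
      rw [e, hβw]
    have h2 := hcent _ (mul_mem (mul_mem (inv_mem hsU) hw) hsU) h1
    have h3 : ((c * δ * c⁻¹ : ↥S₀) : MulAut Y) w = w := by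
      have e : ((c * δ * c⁻¹ : ↥S₀) : MulAut Y) = MulAut.conj s * δ * MulAut.conj s⁻¹ := by
        rw [Subgroup.coe_mul, Subgroup.coe_mul, Subgroup.coe_inv, hc, map_inv]
      rw [e, MulAut.mul_apply, MulAut.mul_apply, MulAut.conj_apply, MulAut.conj_apply, inv_inv, h2]
      group
    rw [hue₁, MulAut.mul_apply, h3, MulAut.conj_apply]
    have h4 := comm_lay R hs (ab_of_coords C.coord) (k := 1) (l := 1) one_pos one_pos (a := u₁) (b := w)
      (by rw [lay_one]; exact hu₁) (by rw [lay_one]; exact hw)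
    rw [commutatorElement_def] at h4
    exact h4
  rcases SigTau.Fram.sig_tau hH R C hs (S.tau (c * δ * c⁻¹)) hγ with ⟨h1, h2⟩ | ⟨h1, h2⟩
  · have h3 : g δ = 1 := by rw [← hgγ]; exact Prod.ext h1 h2
    obtain ⟨z, hz, hz1, hze⟩ := S.cent_one R hG1 C hs hN hρ hne ha hcomm hcent h3
    exact ⟨z, hz, hz1, Or.inl hze⟩
  · have h3 : g δ = g a := by rw [← hgγ]; exact Prod.ext h1 h2
    obtain ⟨z, hz, hz1, hze⟩ := S.cent_one R hG1 C hs hN hρ hne ha (δ := a⁻¹ * δ)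
      (by rw [mul_assoc, hcomm, inv_mul_cancel_left, ← mul_assoc, mul_inv_cancel, one_mul])
      (fun w hw hw' => by
        have e : ((a⁻¹ * δ : ↥S₀) : MulAut Y) = (a : MulAut Y)⁻¹ * δ := rfl
        rw [e, MulAut.mul_apply, hcent w hw hw']
        conv_lhs => rw [← hw']
        exact MulAut.inv_apply_self _ _ _)
      (by rw [map_mul, map_inv, h3, inv_mul_cancel])
    refine ⟨z, hz, hz1, Or.inr ?_⟩
    have e : ((a⁻¹ * δ : ↥S₀) : MulAut Y) = (a : MulAut Y)⁻¹ * δ := rfl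
    rw [← hze, e, mul_inv_cancel_left]

end

end Cfsg.Agent.KFacts.RgdFld.AutP
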