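import Mathlib
import Cfsg.Agent.OddHalf.D7Out.Defs
import Cfsg.Agent.LieRecognition.FieldSemilinear
import Cfsg.Agent.KFacts.RgdFld.AutP
import Cfsg.Agent.KFacts.RgdFld.Two

/-!
# The field part of `C(t)`: the facts `Defs.Fld`

`K` a group with a simply laced root group datum over a field of characteristic two, normal in `C(t)`.

* `actC` : the action of `C(t)` on `K`;
* `exists_fld` : `Defs.Fld`.
-/

set_option autoImplicit false
set_option linter.unusedSectionVars false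

namespace Cfsg.Agent.KFacts.RgdFld.Fld

open CoxeterSystem Cfsg.Agent.ChevalleyStructure.CoxeterGeom Cfsg.Agent.Tits.Roots Cfsg.Agent.Tits.Core
  Cfsg.Agent.Tits.Exchange Cfsg.Agent.Nodes.Reps Cfsg.Agent.Nodes.BNOf Cfsg.Agent.Nodes.StabComb
  Cfsg.Agent.Nodes.Bruhat Cfsg.Agent.Nodes.OppDec Cfsg.Agent.Nodes.PosPair Cfsg.Agent.Nodes.Coroot
  Cfsg.Agent.KFacts.RgdSL Cfsg.Agent.KFacts.RgdAut Cfsg.Agent.KFacts.RgdDiag Cfsg.Agent.KFacts.RgdRigid
  Cfsg.Agent.KFacts.RgdFld.Layer Cfsg.Agent.KFacts.RgdField Cfsg.Agent.KFacts.RgdTau Cfsg.Agent.KFacts.RgdFld.Coh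
  Cfsg.Agent.KFacts.RgdFld.Center Cfsg.Agent.KFacts.RgdFld.SigTau Cfsg.Agent.KFacts.RgdFld.Der
  Cfsg.Agent.KFacts.RgdFld.Hom Cfsg.Agent.KFacts.RgdFld.AutP Cfsg.Agent.OddHalf.D7Out
open scoped commutatorElement

section Abstract

variable {G : Type*} [Group G] {t v : G} {K U Z T : Subgroup G}

theorem mem_cent {c : G} : c ∈ Subgroup.centralizer ({t} : Set G) ↔ c * t = t * c :=
  Subgroup.mem_centralizer_singleton_iff

theorem K_comm (E : Defs.Fr t v K U Z T) {k : G} (hk : k ∈ K) : k * t = t * k := by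
  obtain ⟨j, hj⟩ := Subgroup.mem_zpowers_iff.1 E.tR
  rw [← hj]
  have h1 : Commute k v := E.vK k hk
  exact h1.zpow_right j

theorem nK' (E : Defs.Fr t v K U Z T) (c : ↥(Subgroup.centralizer ({t} : Set G))) (k : ↥K) :
    (c : G) * k * (c : G)⁻¹ ∈ K :=
  (Subgroup.mem_normalizer_iff.1 (E.nK c (mem_cent.1 c.2)) k).1 k.2

/-- the action of `C(t)` on `K` -/
def actC (E : Defs.Fr t v K U Z T) : ↥(Subgroup.centralizer ({t} : Set G)) →* MulAut ↥K where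
  toFun c :=
    { toFun := fun k => ⟨(c : G) * k * (c : G)⁻¹, nK' E c k⟩
      invFun := fun k => ⟨((c⁻¹ : ↥(Subgroup.centralizer ({t} : Set G))) : G) * k *
        ((c⁻¹ : ↥(Subgroup.centralizer ({t} : Set G))) : G)⁻¹, nK' E c⁻¹ k⟩
      left_inv := fun k => Subtype.ext (by
        show (c : G)⁻¹ * ((c : G) * k * (c : G)⁻¹) * ((c : G)⁻¹)⁻¹ = k
        group)
      right_inv := fun k => Subtype.ext (by
        show (c : G) * ((c : G)⁻¹ * k * ((c : G)⁻¹)⁻¹) * (c : G)⁻¹ = k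
        group)
      map_mul' := fun k k' => Subtype.ext (by
        show (c : G) * (k * k') * (c : G)⁻¹ = (c : G) * k * (c : G)⁻¹ * ((c : G) * k' * (c : G)⁻¹)
        group) }
  map_one' := MulEquiv.ext fun k => Subtype.ext (by
    show (1 : G) * k * (1 : G)⁻¹ = k
    group)
  map_mul' c c' := MulEquiv.ext fun k => Subtype.ext (by
    show (c : G) * c' * k * ((c : G) * c')⁻¹ = (c : G) * ((c' : G) * k * (c' : G)⁻¹) * (c : G)⁻¹
    group)

theorem actC_apply (E : Defs.Fr t v K U Z T) (c : ↥(Subgroup.centralizer ({t} : Set G))) (k : ↥K) :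
    ((actC E c k : ↥K) : G) = c * k * (c : G)⁻¹ := rfl

/-- the kernel of the action is `R` -/
theorem actC_eq_one (E : Defs.Fr t v K U Z T) {c : ↥(Subgroup.centralizer ({t} : Set G))} :
    actC E c = 1 ↔ (c : G) ∈ Subgroup.zpowers v := by
  constructor
  · intro h1
    refine E.cK c (mem_cent.1 c.2) fun k hk => ?_
    have h2 : (c : G) * k * (c : G)⁻¹ = k :=
      congrArg Subtype.val (congrArg (fun b : MulAut ↥K => b ⟨k, hk⟩) h1)
    rw [mul_inv_eq_iff_eq_mul] at h2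
    exact h2.symm
  · intro h1
    obtain ⟨j, hj⟩ := Subgroup.mem_zpowers_iff.1 h1
    ext k
    rw [actC_apply]
    have h2 : Commute (k : G) v := E.vK k k.2
    have h3 : (k : G) * c = c * k := by rw [← hj]; exact h2.zpow_right j
    rw [← h3, mul_inv_cancel_right]; rfl

theorem actC_of_mem (E : Defs.Fr t v K U Z T) {c : ↥(Subgroup.centralizer ({t} : Set G))} (hc : (c : G) ∈ K) :
    actC E c = MulAut.conj (⟨c, hc⟩ : ↥K) := by
  ext k
  rfl

/-- two elements of `C(t)` acting in the same way on `K` differ by an element of `R` -/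
theorem actC_eq (E : Defs.Fr t v K U Z T) {c c' : ↥(Subgroup.centralizer ({t} : Set G))} (he : actC E c = actC E c') :
    (c : G) * (c' : G)⁻¹ ∈ Subgroup.zpowers v := by
  have h1 : actC E (c * c'⁻¹) = 1 := by rw [map_mul, map_inv, he, mul_inv_cancel]
  exact (actC_eq_one E).1 h1

end Abstract

variable {I W : Type*} [Fintype I] [DecidableEq I] [Group W] {M : CoxeterMatrix I}
  {cs : CoxeterSystem M W} {A : I → I → ℤ} {h : IsCartan M A}
  {G : Type*} [Group G] {K : Subgroup G} {T₀ : Subgroup ↥K} {n : I → ↥K} {X : (I → ℤ) → Subgroup ↥K}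
  {F : Type*} [Field F] {x : (I → ℤ) → F → ↥K} {χ : (I → ℤ) → ↥K → F} {hh : I → F → ↥K}
  {t v : G} {U Z T : Subgroup G}

/-- **The field part of `C(t)`.** -/
theorem exists_fld [Finite G] [Finite W] [Nontrivial I] [CharP F 2] (E : Defs.Fr t v K U Z T)
    (hU : U = (RGD.Sup X (RGD.Pos cs h)).map K.subtype) {ρ : I → ℤ} (hZ : Z = (X ρ).map K.subtype)
    (R : RGD cs h 2 T₀ n X)
    (hG1 : RGD.Sup X {x | IsRoot cs h x} = ⊤) (C : Coords cs h T₀ n X x χ) (H : Coroots A T₀ X χ hh)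
    (hconn : ∀ J : Set I, J.Nonempty → J ≠ Set.univ → ∃ a ∈ J, ∃ b, b ∉ J ∧ M a b ≠ 2)
    (hA : ∀ σ : Equiv.Perm I, (∀ i j, M (σ i) (σ j) = M i j) → ∀ i j, A (σ i) (σ j) = A i j)
    (hs : SL cs h) (hN : Str cs h x) (hρr : IsRoot cs h ρ) (hρd : ∀ i, 0 ≤ cpr cs h (sr i) ρ)
    (hM2 : ∀ σ : Equiv.Perm I, (∀ i j, M (σ i) (σ j) = M i j) → ∀ k : ℕ, σ ^ 2 ^ k = 1 → σ * σ = 1) :
    ∃ (B : Type) (_ : CommGroup B) (lf : ↥(Subgroup.centralizer ({t} : Set G)) →* B)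
      (hT : T ≤ Subgroup.centralizer ({t} : Set G)), Defs.Fld E lf hT ∧
      ∀ (y : G) (hy : y ∈ T) (u : ↥K) (σ : Equiv.Perm I) (τ : F ≃+* F),
        Tau T₀ X χ A (MulAut.conj u * actC E ⟨y, hT hy⟩) σ τ → lf ⟨y, hT hy⟩ = 1 → τ = 1 := by
  have : Fact (Nat.Prime 2) := ⟨Nat.prime_two⟩
  have hG := GG_eq_top (T := T₀) hG1
  have hρ : Highest cs h ρ := Dom.highest hconn hs hρr hρd
  obtain ⟨i₀, hi₀⟩ := Dom.exists_node hconn hs hρr hρd
  -- the field is finite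
  have hFfin : Finite F := by
    obtain ⟨i⟩ : Nonempty I := inferInstance
    exact Finite.of_injective _ (C.coord _ (isRoot_sr cs h i)).inj
  have hAfin : Finite (F ≃+* F) := Finite.of_injective (fun e : F ≃+* F => (e : F → F)) DFunLike.coe_injective
  have hcyc : IsCyclic (F ≃+* F) := Cfsg.Agent.LieRecognition.FieldSemilinear.isCyclic_ringAut F
  obtain ⟨φ, hφ⟩ := exists_phi R hG1 C H hconn hA
  obtain ⟨B, hB, π, hπ2, hBu, hπ1⟩ := Two.exists_proj (F ≃+* F)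
  have hT : T ≤ Subgroup.centralizer ({t} : Set G) := fun y hy => mem_cent.2 (E.tc y hy)
  have hUT : U ≤ T := by rw [E.U_eq]; exact inf_le_left
  have hUK : U ≤ K := by rw [E.U_eq]; exact inf_le_right
  have hmemU : ∀ k : ↥K, (k : G) ∈ U ↔ k ∈ RGD.Sup X (RGD.Pos cs h) := by
    intro k
    rw [hU]
    constructor
    · rintro ⟨k', hk', e⟩
      rwa [← Subtype.ext e]
    · intro hk
      exact ⟨k, hk, rfl⟩
  have hmemZ : ∀ k : ↥K, (k : G) ∈ Z ↔ k ∈ X ρ := by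
    intro k
    rw [hZ]
    constructor
    · rintro ⟨k', hk', e⟩
      rwa [← Subtype.ext e]
    · intro hk
      exact ⟨k, hk, rfl⟩
  -- the symmetry of the elements of `C(t)`
  obtain ⟨ψ, hψ⟩ : ∃ ψ : ↥(Subgroup.centralizer ({t} : Set G)) →* (F ≃+* F),
      ψ = (MonoidHom.snd _ _).comp (φ.comp (actC E)) := ⟨_, rfl⟩
  have hψ' : ∀ c, ψ c = (φ (actC E c)).2 := fun c => by rw [hψ]; rfl
  obtain ⟨lf, hlf⟩ : ∃ lf : ↥(Subgroup.centralizer ({t} : Set G)) →* B, lf = π.comp ψ := ⟨_, rfl⟩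
  have hlf' : ∀ c, lf c = π (ψ c) := fun c => by rw [hlf]; rfl
  -- the action of `T`
  obtain ⟨aT, haT⟩ : ∃ aT : ↥T →* MulAut ↥K, aT = (actC E).comp (Subgroup.inclusion hT) := ⟨_, rfl⟩
  have haT' : ∀ y : ↥T, aT y = actC E ⟨y, hT y.2⟩ := fun y => by rw [haT]; rfl
  have hpT : ∀ y : ↥T, ∃ k : ℕ, y ^ 2 ^ k = 1 := fun y => E.pT y
  have hSp : IsPGroup 2 ↥aT.range := by
    rintro ⟨_, y, rfl⟩
    obtain ⟨k, hk⟩ := hpT y
    exact ⟨k, Subtype.ext (by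
      show aT y ^ 2 ^ k = 1
      rw [← map_pow, hk, map_one])⟩
  have hfix : ∀ α ∈ aT.range, Fix α (RGD.Sup X (RGD.Pos cs h)) := by
    rintro _ ⟨y, rfl⟩
    have key : ∀ y : ↥T, ∀ k ∈ RGD.Sup X (RGD.Pos cs h), aT y k ∈ RGD.Sup X (RGD.Pos cs h) := by
      intro y k hk
      rw [← hmemU, E.U_eq]
      rw [← hmemU] at hk
      refine ⟨?_, (aT y k).2⟩
      rw [haT']
      exact T.mul_mem (T.mul_mem y.2 (hUT hk)) (T.inv_mem y.2)
    intro k
    refine ⟨fun hk => ?_, key y k⟩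
    have h1 := key y⁻¹ _ hk
    rwa [map_inv, MulAut.inv_apply_self] at h1
  have haTU : ∀ (u : ↥K) (hu : (u : G) ∈ U), aT ⟨u, hUT hu⟩ = MulAut.conj u := by
    intro u hu
    rw [haT', actC_of_mem E (c := ⟨u, hT (hUT hu)⟩) u.2]
  have hinn : ∀ u ∈ RGD.Sup X (RGD.Pos cs h), MulAut.conj u ∈ aT.range := by
    intro u hu
    rw [← hmemU] at hu
    exact ⟨⟨u, hUT hu⟩, haTU u hu⟩
  obtain ⟨g, hg⟩ : ∃ g : ↥aT.range →* Equiv.Perm I × (F ≃+* F), g = φ.comp aT.range.subtype := ⟨_, rfl⟩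
  have hg' : ∀ α, g α = φ α := fun α => by rw [hg]; rfl
  obtain ⟨f, S⟩ := exists_sit R hG1 C hSp hfix hinn g (by
    intro α
    obtain ⟨u, hu, -, -, -, σ, D⟩ := exists_frame_pow R hG (hfix α.1 α.2)
    obtain ⟨τ, hτ⟩ := exists_tau R C H hconn D (hA σ (D.matrix R))
    refine ⟨u, hu, ?_⟩
    rw [hg', (hφ α.1).2 u σ τ hτ]
    exact hτ)
  -- the element of `S₀` defined by `y ∈ T`
  obtain ⟨r, hr⟩ : ∃ r : ↥T →* ↥aT.range, r = aT.rangeRestrict := ⟨_, rfl⟩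
  have hr' : ∀ y, (r y : MulAut ↥K) = aT y := fun y => by rw [hr]; rfl
  have hgr : ∀ y : ↥T, (g (r y)).2 = ψ ⟨y, hT y.2⟩ := by
    intro y
    rw [hg', hr', haT', hψ']
  have hpow2 : ∀ y : ↥T, ∃ k : ℕ, ψ ⟨y, hT y.2⟩ ^ 2 ^ k = 1 := by
    intro y
    obtain ⟨k, hk⟩ := hpT y
    refine ⟨k, ?_⟩
    rw [← map_pow]
    have h1 : (y : G) ^ 2 ^ k = 1 := by
      rw [← Subgroup.coe_pow, hk]; rfl
    have : (⟨(y : G), hT y.2⟩ : ↥(Subgroup.centralizer ({t} : Set G))) ^ 2 ^ k = 1 := by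
      apply Subtype.ext
      rw [Subgroup.coe_pow]
      exact h1
    rw [this, map_one]
  have hlf1 : ∀ y : ↥T, lf ⟨y, hT y.2⟩ = 1 → ψ ⟨y, hT y.2⟩ = 1 := by
    intro y h1
    obtain ⟨k, hk⟩ := hpow2 y
    rw [hlf'] at h1
    exact hπ1 _ k hk h1
  -- a good element
  have hgood : ∀ y : G, Defs.GoodY (v := v) lf hT y → ∃ hy : y ∈ T,
      (g (r ⟨y, hy⟩)).2 ≠ 1 ∧ r ⟨y, hy⟩ * r ⟨y, hy⟩ = 1 := by
    rintro y ⟨hy, h1, -, h3⟩
    refine ⟨hy, ?_, ?_⟩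
    · rw [hgr]
      intro h4
      exact h1 (by rw [hlf', h4, map_one])
    · apply Subtype.ext
      have h4 := (actC_eq_one E (c := ⟨y, hT hy⟩ * ⟨y, hT hy⟩)).2 h3
      rw [map_mul, ← haT' ⟨y, hy⟩, ← hr'] at h4
      exact h4
  refine ⟨B, hB, lf, hT, ?_, ?_⟩
  swap
  · intro y hy u σ τ hτ h1
    have h2 := hlf1 ⟨y, hy⟩ h1
    rw [hψ', (hφ _).2 u σ τ hτ] at h2
    exact h2
  constructor
  · -- lK
    intro c hc
    rw [hlf', hψ', actC_of_mem E hc]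
    have h1 : φ (MulAut.conj (⟨c, hc⟩ : ↥K)) = (1, 1) := by
      apply (hφ _).2 (⟨c, hc⟩ : ↥K)⁻¹ 1 1
      rw [map_inv, inv_mul_cancel]
      exact Tau.one
    rw [h1, map_one]
  · -- lv
    intro c hc
    rw [hlf', hψ', (actC_eq_one E).2 hc, map_one]
    exact map_one π
  · -- l2
    intro c
    rw [hlf']
    exact hπ2 _
  · -- lu
    intro c c' h1 h2 h3 h4
    exact hBu _ _ h1 h2 h3 h4
  · -- (A)
    intro y hy h1 h2
    obtain ⟨u, hu, hue⟩ := S.fr (r ⟨y, hy⟩)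
    have huU := (hmemU u).2 hu
    obtain ⟨y', hy'⟩ : ∃ y' : ↥T, y' = ⟨u, hUT huU⟩ * ⟨y, hy⟩ := ⟨_, rfl⟩
    have hf : aT y' = f (r ⟨y, hy⟩) := by
      rw [hy', map_mul, haTU u huU, hue, hr']
    have hlfy : lf ⟨y', hT y'.2⟩ = lf ⟨y, hT hy⟩ := by
      have e : (⟨(y' : G), hT y'.2⟩ : ↥(Subgroup.centralizer ({t} : Set G))) =
          ⟨u, hT (hUT huU)⟩ * ⟨y, hT hy⟩ := Subtype.ext (by rw [hy']; rfl)
      rw [e, map_mul]
      have h3 : lf ⟨u, hT (hUT huU)⟩ = 1 := by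
        rw [hlf', hψ', actC_of_mem E (c := ⟨u, hT (hUT huU)⟩) u.2]
        have h1 : φ (MulAut.conj u) = (1, 1) := by
          apply (hφ _).2 u⁻¹ 1 1
          rw [map_inv, inv_mul_cancel]
          exact Tau.one
        rw [h1, map_one]
      rw [h3, one_mul]
    have hsq : f (r ⟨y, hy⟩) * f (r ⟨y, hy⟩) = 1 := by
      have h3 := (S.tau (r ⟨y, hy⟩)).mul (S.tau (r ⟨y, hy⟩))
      have hσ : (g (r ⟨y, hy⟩)).1 * (g (r ⟨y, hy⟩)).1 = 1 := by
        obtain ⟨k, hk⟩ := hSp (r ⟨y, hy⟩)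
        refine hM2 _ ((S.tau (r ⟨y, hy⟩)).diag.matrix R) k ?_
        have h4 : (g (r ⟨y, hy⟩)) ^ 2 ^ k = 1 := by rw [← map_pow, hk, map_one]
        have h5 := congrArg Prod.fst h4
        rwa [Prod.pow_fst] at h5
      have hτ : (g (r ⟨y, hy⟩)).2 * (g (r ⟨y, hy⟩)).2 = 1 := by
        rw [hgr, ← map_mul]
        have e : (⟨y, hT hy⟩ : ↥(Subgroup.centralizer ({t} : Set G))) * ⟨y, hT hy⟩ =
          ⟨((⟨y, hy⟩ * ⟨y, hy⟩ : ↥T) : G), hT (⟨y, hy⟩ * ⟨y, hy⟩ : ↥T).2⟩ := rfl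
        rw [e]
        apply hlf1
        rw [← e, map_mul, h2]
      rw [hσ, hτ] at h3
      obtain ⟨k, hk⟩ := S.pow (r ⟨y, hy⟩ * r ⟨y, hy⟩)
      rw [map_mul] at hk
      exact Tau.eq_one R hG1 C h3 hk
    refine ⟨y', ⟨y'.2, ?_, ?_, ?_⟩, ?_⟩
    · rw [hlfy]; exact h1
    · rw [hlfy]; exact h2
    · have h3 : actC E (⟨y', hT y'.2⟩ * ⟨y', hT y'.2⟩) = 1 := by
        rw [map_mul, ← haT' y', hf, hsq]
      exact (actC_eq_one E).1 h3
    · -- the order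
      apply Nat.le_of_dvd (orderOf_pos y)
      apply orderOf_dvd_of_pow_eq_one
      have h3 : (r ⟨y, hy⟩) ^ orderOf y = 1 := by
        rw [← map_pow]
        have : (⟨y, hy⟩ : ↥T) ^ orderOf y = 1 := Subtype.ext (pow_orderOf_eq_one y)
        rw [this, map_one]
      have h4 := S.ord _ _ h3
      rw [← hf, ← map_pow] at h4
      have h5 : ((y' ^ orderOf y : ↥T) : G) ∈ Subgroup.zpowers v := by
        rw [haT'] at h4
        exact (actC_eq_one E).1 h4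
      have h6 : ∀ k : ℕ, ∃ w ∈ U, ((y' ^ k : ↥T) : G) = w * y ^ k := by
        intro k
        induction k with
        | zero => exact ⟨1, one_mem _, by rw [pow_zero, pow_zero, one_mul]; rfl⟩
        | succ k ih =>
          obtain ⟨w, hw, e⟩ := ih
          have h7 : ∀ w ∈ U, y ^ k * w * (y ^ k)⁻¹ ∈ U := by
            intro w hw
            have h8 := (hfix _ ⟨(⟨y, hy⟩ ^ k : ↥T), rfl⟩ ⟨w, hUK hw⟩).2 ((hmemU _).1 hw)
            rw [← hmemU, haT'] at h8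
            exact h8
          refine ⟨w * (y ^ k * u * (y ^ k)⁻¹), mul_mem hw (h7 _ huU), ?_⟩
          have e2 : (y' : G) = u * y := by rw [hy']; rfl
          have e3 : ((y' ^ (k + 1) : ↥T) : G) = ((y' ^ k : ↥T) : G) * y' := by rw [pow_succ]; rfl
          rw [e3, e, e2, pow_succ]
          group
      obtain ⟨w, hw, e⟩ := h6 (orderOf y)
      rw [pow_orderOf_eq_one, mul_one] at e
      rw [e] at h5
      have h7 : ((y' ^ orderOf y : ↥T) : G) = 1 := by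
        rw [e]
        exact E.KR w (hUK hw) h5
      exact h7
  · -- (B)
    intro y hyg w hw hwy hcent
    obtain ⟨hy, h1, h2⟩ := hgood y hyg
    obtain ⟨z, hz, hz1, hz2⟩ := S.cent R hG1 C hs hN hρ h1 h2 (δ := r ⟨w, hw⟩)
      (by rw [← map_mul, ← map_mul]; congr 1; exact Subtype.ext hwy) (by
        intro k hk hk1
        rw [hr', haT'] at hk1
        rw [hr', haT']
        have h3 : y * k * y⁻¹ = k := congrArg Subtype.val hk1
        rw [mul_inv_eq_iff_eq_mul] at h3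
        have h4 := hcent k ((hmemU k).2 hk) h3.symm
        apply Subtype.ext
        show w * k * w⁻¹ = k
        rw [← h4, mul_inv_cancel_right])
    have hzZ : (z : G) ∈ Z := (hmemZ z).2 hz
    have hzy : (z : G) * y = y * z := by
      rw [hr', haT'] at hz1
      have h3 : y * z * y⁻¹ = z := congrArg Subtype.val hz1
      rw [mul_inv_eq_iff_eq_mul] at h3
      exact h3.symm
    have hzT : (z : G) ∈ Subgroup.centralizer ({t} : Set G) := hT (hUT (E.ZU hzZ))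
    have hzC : actC E ⟨z, hzT⟩ = MulAut.conj z := actC_of_mem E (c := ⟨z, hzT⟩) z.2
    rcases hz2 with h3 | h3
    · rw [hr', haT', ← hzC] at h3
      exact ⟨w * (z : G)⁻¹, actC_eq E h3, z, hzZ, hzy, Or.inl (by group)⟩
    · rw [hr', hr', haT', haT', ← hzC, ← map_mul] at h3
      have h4 : w * (y * z)⁻¹ ∈ Subgroup.zpowers v := actC_eq E h3
      obtain ⟨q, hq⟩ : ∃ q, q = w * (y * (z : G))⁻¹ := ⟨_, rfl⟩
      rw [← hq] at h4
      -- `y⁻¹ q y ∈ R`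
      have h5 : y⁻¹ * q * y ∈ Subgroup.zpowers v := by
        have h6 := (actC_eq_one E (c := (⟨y, hT hy⟩ : ↥(Subgroup.centralizer ({t} : Set G)))⁻¹ *
          ⟨q, hq ▸ mul_mem (hT hw) (inv_mem (mul_mem (hT hy) hzT))⟩ * ⟨y, hT hy⟩)).1 (by
            rw [map_mul, map_mul, (actC_eq_one E (c := ⟨q, _⟩)).2 h4, mul_one, ← map_mul, inv_mul_cancel, map_one])
        exact h6
      refine ⟨y⁻¹ * q * y, h5, z, hzZ, hzy, Or.inr ?_⟩
      rw [hq]; group
  · -- (C)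
    intro y hyg z hz hzy
    obtain ⟨hy, h1, h2⟩ := hgood y hyg
    have hzK : z ∈ K := hUK (E.ZU hz)
    have hzX : (⟨z, hzK⟩ : ↥K) ∈ X ρ := (hmemZ ⟨z, hzK⟩).1 hz
    have hH : Fram T₀ X χ A (f (r ⟨y, hy⟩)) (g (r ⟨y, hy⟩)).1 (g (r ⟨y, hy⟩)).2 := by
      refine ⟨S.tau _, fun k => ?_, h1⟩
      have h3 : f (r ⟨y, hy⟩) * f (r ⟨y, hy⟩) = 1 := by rw [← map_mul, h2, map_one]
      exact congrArg (fun b : MulAut ↥K => b k) h3
    obtain ⟨u, hu, hue⟩ := S.fr (r ⟨y, hy⟩)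
    obtain ⟨s, hsU, hse⟩ := exists_conj R hG1 C hs hH (congrArg Subtype.val h2) hu hue
    obtain ⟨k, hk, hke⟩ := exists_comm R C hs hH hρ hsU hse hzX (by
      rw [hr', haT']
      apply Subtype.ext
      show y * z * y⁻¹ = z
      rw [← hzy, mul_inv_cancel_right])
    have hkU : (k : G) ∈ U := E.ZU ((hmemZ k).2 hk)
    have h3 : y * k * y⁻¹ * (k : G)⁻¹ = z := by
      rw [hr', haT'] at hke
      exact congrArg Subtype.val hke
    -- `y² ∈ R` centralises `K`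
    have h4 : (k : G) * (y * y) = y * y * k := by
      have h5 : aT ⟨y, hy⟩ * aT ⟨y, hy⟩ = 1 := by
        rw [← hr']
        exact congrArg Subtype.val h2
      rw [haT'] at h5
      have h6 : y * (y * k * y⁻¹) * y⁻¹ = k :=
        congrArg Subtype.val (congrArg (fun b : MulAut ↥K => b k) h5)
      calc (k : G) * (y * y) = y * (y * k * y⁻¹) * y⁻¹ * (y * y) := by rw [h6]
        _ = y * y * k := by group
    refine ⟨k, hkU, ?_⟩
    -- `y z = z y = y k y⁻¹ k⁻¹ y`, and `y⁻¹ k y = y k y⁻¹`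
    have h5 : y⁻¹ * k * y = y * k * y⁻¹ := by
      calc y⁻¹ * k * y = y⁻¹ * ((k : G) * (y * y)) * y⁻¹ := by group
        _ = y⁻¹ * (y * y * k) * y⁻¹ := by rw [h4]
        _ = y * k * y⁻¹ := by group
    rw [← h3, ← h5]
    group
  · -- (D)
    intro y hyg z hz hzy
    obtain ⟨hy, h1, h2⟩ := hgood y hyg
    have hzK : z ∈ K := hUK (E.ZU hz)
    have hzX : (⟨z, hzK⟩ : ↥K) ∈ X ρ := (hmemZ ⟨z, hzK⟩).1 hz
    have hH : Fram T₀ X χ A (f (r ⟨y, hy⟩)) (g (r ⟨y, hy⟩)).1 (g (r ⟨y, hy⟩)).2 := by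
      refine ⟨S.tau _, fun k => ?_, h1⟩
      have h3 : f (r ⟨y, hy⟩) * f (r ⟨y, hy⟩) = 1 := by rw [← map_mul, h2, map_one]
      exact congrArg (fun b : MulAut ↥K => b k) h3
    obtain ⟨u, hu, hue⟩ := S.fr (r ⟨y, hy⟩)
    obtain ⟨s, hsU, hse⟩ := exists_conj R hG1 C hs hH (congrArg Subtype.val h2) hu hue
    have h3 := der' R C hs hN hH hρ hi₀ hsU hse hzX (by
      rw [hr', haT']
      apply Subtype.ext
      show y * z * y⁻¹ = z
      rw [← hzy, mul_inv_cancel_right])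
    have h4 : (CU cs h X ((r ⟨y, hy⟩ : ↥aT.range) : MulAut ↥K)).map K.subtype ≤
        U ⊓ Subgroup.centralizer ({y} : Set G) := by
      rintro _ ⟨k, ⟨hk, hk1⟩, rfl⟩
      refine ⟨(hmemU k).2 hk, ?_⟩
      rw [hr', haT'] at hk1
      have h5 : y * k * y⁻¹ = k := congrArg Subtype.val hk1
      rw [mul_inv_eq_iff_eq_mul] at h5
      exact Subgroup.mem_centralizer_singleton_iff.2 h5.symm
    have h5 : z ∈ (⁅CU cs h X ((r ⟨y, hy⟩ : ↥aT.range) : MulAut ↥K),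
        CU cs h X ((r ⟨y, hy⟩ : ↥aT.range) : MulAut ↥K)⁆).map K.subtype := ⟨⟨z, hzK⟩, h3, rfl⟩
    rw [Subgroup.map_commutator] at h5
    exact Subgroup.commutator_mono h4 h4 h5

end Cfsg.Agent.KFacts.RgdFld.Fld
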